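import Cfsg.Agent.H65.BSWAction

/-!
The Brauer-Suzuki-Wall pair gives `PSL(2, q)`, without assuming simplicity.
-/

set_option autoImplicit false
set_option linter.style.haveILetI false

namespace H10.ClassSize

open Subgroup
open scoped Pointwise
open H65 (mul_self_of_two inv_of_two smul_coset_eq_iff)

variable {G : Type*} [Group G] [Finite G]

/-- A group with a Brauer-Suzuki-Wall pair `Q`, `D` and no normal subgroup of order `q + 1` is
`PSL(2, q)`, `q` odd. -/
theorem psl_of_bsw_pair (Q D : Subgroup G)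
    (hord : 2 * Nat.card G = Nat.card Q * (Nat.card Q + 1) * (Nat.card Q - 1))
    (hQ : ∀ x ∈ Q, x ≠ 1 → centralizer ({x} : Set G) = Q)
    (hDc : IsMulCommutative D) (hd : 2 * Nat.card D + 1 = Nat.card Q) (hQD : Q ⊓ D = ⊥)
    (hN : normalizer (Q : Set G) = Q ⊔ D)
    (hX : ∀ X : Subgroup G, X ≤ D → X ≠ ⊥ →
        normalizer (X : Set G) = normalizer (D : Set G) ∧
        ∃ u : G, orderOf u = 2 ∧ u ∉ D ∧ (∀ d ∈ D, u * d * u⁻¹ = d⁻¹) ∧
          normalizer (D : Set G) = D ⊔ zpowers u)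
    (hd1' : Nat.card D ≠ 1) (hreg : ∀ N : Subgroup G, N.Normal → Nat.card N ≠ Nat.card Q + 1) :
    ∃ (F : Type) (_ : Field F) (_ : Fintype F), Fintype.card F = Nat.card Q ∧
      Nonempty (G ≃* Matrix.ProjectiveSpecialLinearGroup (Fin 2) F) := by
  classical
  set q := Nat.card Q with hq
  set d := Nat.card D with hdd
  have hd0 : 0 < d := Nat.card_pos
  have hd1 : d ≠ 1 := hd1'
  have hDbot : D ≠ ⊥ := fun h => hd1 (by rw [hdd, h]; exact Subgroup.card_bot)
  obtain ⟨-, u, hu, huD, huinv, -⟩ := hX D le_rfl hDbot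
  have huu : u * u = 1 := mul_self_of_two hu
  have huinv' : u⁻¹ = u := inv_of_two hu
  set M : Subgroup G := normalizer (Q : Set G) with hM
  have hQM : Q ≤ M := le_normalizer
  have hDM : D ≤ M := by rw [hN]; exact le_sup_right
  have hcop : q.Coprime d := by
    rw [← hd, Nat.coprime_mul_right_add_left]
    exact Nat.coprime_one_left d
  have hMcard : Nat.card M = q * d := by
    rw [hN]
    exact H1.card_sup_of_coprime hDM hcop
  have hsplit : ∀ m ∈ M, ∃ x ∈ Q, ∃ e ∈ D, m = x * e := fun m hm => by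
    rw [hN] at hm
    exact H1.exists_mul_of_mem_sup hDM hm
  have hqd : q - 1 = 2 * d := by omega
  -- the index
  have hidx : M.index = q + 1 := by
    have h1 := M.card_mul_index
    rw [hMcard] at h1
    rw [← h1, hqd] at hord
    have hpos : 0 < 2 * (q * d) := Nat.mul_pos two_pos (Nat.mul_pos (by omega) hd0)
    refine Nat.eq_of_mul_eq_mul_left hpos ?_
    calc 2 * (q * d) * M.index = 2 * (q * d * M.index) := by ring
      _ = q * (q + 1) * (2 * d) := hord
      _ = 2 * (q * d) * (q + 1) := by ring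
  have hcomm : ∀ x ∈ Q, ∀ y ∈ Q, x * y = y * x := fun x hx y hy => by
    by_cases hy1 : y = 1
    · simp [hy1]
    · have : x ∈ centralizer ({y} : Set G) := (hQ y hy hy1).symm ▸ hx
      exact mem_centralizer_singleton_iff.1 this
  have hTI : ∀ g x : G, x ∈ Q → x ≠ 1 → g * x * g⁻¹ ∈ Q → g ∈ M := by
    have key : ∀ g x : G, x ∈ Q → x ≠ 1 → g * x * g⁻¹ ∈ Q → ∀ w ∈ Q, g * w * g⁻¹ ∈ Q := by
      intro g x hx hx1 hg w hw
      rw [← hQ _ hg (fun h => hx1 (conj_eq_one_iff.1 h)), mem_centralizer_singleton_iff]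
      calc g * w * g⁻¹ * (g * x * g⁻¹) = g * (w * x) * g⁻¹ := by group
        _ = g * (x * w) * g⁻¹ := by rw [hcomm w hw x hx]
        _ = g * x * g⁻¹ * (g * w * g⁻¹) := by group
    intro g x hx hx1 hg
    rw [hM, mem_normalizer_iff]
    refine fun w => ⟨fun hw => key g x hx hx1 hg w hw, fun hw => ?_⟩
    have := key g⁻¹ (g * x * g⁻¹) hg (fun h => hx1 (conj_eq_one_iff.1 h))
      (by rw [show g⁻¹ * (g * x * g⁻¹) * g⁻¹⁻¹ = x by group]; exact hx) _ hw
    rwa [show g⁻¹ * (g * w * g⁻¹) * g⁻¹⁻¹ = w by group] at this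
  -- `Q` meets other conjugates of `M` trivially
  haveI hQn : (Q.subgroupOf M).Normal := normal_in_normalizer
  have hQidx : (Q.subgroupOf M).index = d := by
    have h1 := (Q.subgroupOf M).card_mul_index
    rw [Nat.card_congr (subgroupOfEquivOfLe hQM).toEquiv, hMcard] at h1
    exact Nat.eq_of_mul_eq_mul_left Nat.card_pos h1
  have hHall : ∀ y ∈ M, y ^ q = 1 → y ∈ Q := by
    intro y hy hyq
    have h1 : (⟨y, hy⟩ : M) ^ d ∈ Q.subgroupOf M := hQidx ▸ pow_index_mem _ _
    have hc : (d).Coprime (orderOf y) :=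
      (hcop.coprime_dvd_left (orderOf_dvd_of_pow_eq_one hyq)).symm
    obtain ⟨m, hm⟩ := exists_pow_eq_self_of_coprime hc
    rw [← hm]
    exact Q.pow_mem (mem_subgroupOf.1 h1) m
  have hsep : ∀ g x : G, g ∉ M → x ∈ Q → g⁻¹ * x * g ∈ M → x = 1 := by
    intro g x hg hx hy
    by_contra hx1
    have hyQ : g⁻¹ * x * g ∈ Q := hHall _ hy (by
      have hx' : (⟨x, hx⟩ : Q) ^ q = 1 := pow_card_eq_one'
      have hx'' : x ^ q = 1 := congrArg Subtype.val hx'
      have := conj_pow (a := g⁻¹) (b := x) (i := q)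
      rw [inv_inv] at this
      rw [this, hx'']; group)
    exact hg (hTI g _ hyQ (fun h => hx1 (by
      have : x = g * (g⁻¹ * x * g) * g⁻¹ := by group
      rw [this, h]; group)) (by rw [show g * (g⁻¹ * x * g) * g⁻¹ = x by group]; exact hx))
  have huM : u ∉ M := by
    intro huM
    obtain ⟨x, hx, e, he, hxe⟩ := hsplit u huM
    have hxN : ∀ w ∈ D, x * w * x⁻¹ ∈ D := by
      intro w hw
      have hw' : e⁻¹ * w * e ∈ D := D.mul_mem (D.mul_mem (D.inv_mem he) hw) he
      rw [show x * w * x⁻¹ = (x * e) * (e⁻¹ * w * e) * (x * e)⁻¹ by group, ← hxe, huinv _ hw']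
      exact D.inv_mem hw'
    obtain ⟨⟨w, hw⟩, hw1⟩ := Subgroup.ne_bot_iff_exists_ne_one.1 hDbot
    have hw1' : w ≠ 1 := fun h => hw1 (Subtype.ext h)
    have h1 : x * w * x⁻¹ * w⁻¹ ∈ Q ⊓ D := by
      refine ⟨?_, D.mul_mem (hxN w hw) (D.inv_mem hw)⟩
      rw [show x * w * x⁻¹ * w⁻¹ = x * (w * x⁻¹ * w⁻¹) by group]
      exact Q.mul_mem hx ((mem_normalizer_iff.1 (hDM hw) _).1 (Q.inv_mem hx))
    rw [hQD, mem_bot] at h1
    by_cases hx1 : x = 1
    · exact huD (by rw [hxe, hx1, one_mul]; exact he)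
    · have : w ∈ centralizer ({x} : Set G) := mem_centralizer_singleton_iff.2 (by
        calc w * x = (x * w * x⁻¹ * w⁻¹) * (w * x) := by rw [h1, one_mul]
          _ = x * w := by group)
      rw [hQ x hx hx1] at this
      have h2 : w ∈ Q ⊓ D := ⟨this, hw⟩
      rw [hQD, mem_bot] at h2
      exact hw1' h2
  -- the action on the cosets of `M`
  letI : Fintype (G ⧸ M) := Fintype.ofFinite _
  have hΩ : Fintype.card (G ⧸ M) = q + 1 := by rw [← Nat.card_eq_fintype_card, ← hidx, index]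
  set a : G ⧸ M := ((1 : G) : G ⧸ M) with ha
  set b : G ⧸ M := (u : G ⧸ M) with hb
  have hstab : ∀ g : G, g • a = a ↔ g ∈ M := fun g => by rw [ha, smul_coset_eq_iff]; simp
  have hab : a ≠ b := fun h => huM (by simpa using QuotientGroup.eq.1 h)
  have hua : u • a = b := by rw [ha, hb, MulAction.Quotient.smul_coe, smul_eq_mul, mul_one]
  have hub : u • b = a := by rw [hb, ha, MulAction.Quotient.smul_coe, smul_eq_mul, huu]
  let φ : Q → {c : G ⧸ M // c ≠ a} := fun x => ⟨(x : G) • b, fun h => hab (by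
    have h1 : (x : G) • a = a := (hstab _).2 (hQM x.2)
    exact (MulAction.injective (x : G) (h.trans h1.symm)).symm)⟩
  have hφ : Function.Injective φ := by
    intro x y hxy
    have e : (x : G) • b = (y : G) • b := congrArg Subtype.val hxy
    have h1 : ((y : G)⁻¹ * x) • b = b := by rw [mul_smul, e, inv_smul_smul]
    rw [hb, smul_coset_eq_iff] at h1
    have := hsep u _ huM (Q.mul_mem (Q.inv_mem y.2) x.2) h1
    exact Subtype.ext (inv_mul_eq_one.1 this).symm
  have hφb : Function.Bijective φ := by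
    refine (Nat.bijective_iff_injective_and_card φ).2 ⟨hφ, ?_⟩
    rw [Nat.card_eq_fintype_card (α := {c : G ⧸ M // c ≠ a}), Fintype.card_subtype_compl,
      Fintype.card_subtype_eq, hΩ]
    rfl
  have htwo : MulAction.IsMultiplyPretransitive G (G ⧸ M) 2 := by
    rw [MulAction.is_two_pretransitive_iff]
    have hmove : ∀ x y : G ⧸ M, x ≠ y → ∃ g : G, g • x = a ∧ g • y = b := by
      intro x y hxy
      obtain ⟨g, hg⟩ := MulAction.exists_smul_eq G x a
      have hgy : g • y ≠ a := fun h => hxy (MulAction.injective g (hg.trans h.symm))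
      obtain ⟨w, hw⟩ := hφb.2 ⟨g • y, hgy⟩
      have hw' : (w : G) • b = g • y := congrArg Subtype.val hw
      refine ⟨(w : G)⁻¹ * g, ?_, ?_⟩
      · rw [mul_smul, hg, inv_smul_eq_iff]; exact ((hstab _).2 (hQM w.2)).symm
      · rw [mul_smul, ← hw', inv_smul_smul]
    intro a₁ b₁ c₁ d₁ h1 h2
    obtain ⟨g, hg1, hg2⟩ := hmove a₁ b₁ h1
    obtain ⟨g', hg'1, hg'2⟩ := hmove c₁ d₁ h2
    exact ⟨g'⁻¹ * g, by rw [mul_smul, hg1, ← hg'1, inv_smul_smul],
      by rw [mul_smul, hg2, ← hg'2, inv_smul_smul]⟩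
  have hpair : MulAction.stabilizer G a ⊓ MulAction.stabilizer G b = D := by
    ext g
    simp only [mem_inf, MulAction.mem_stabilizer_iff]
    constructor
    · rintro ⟨hga, hgb⟩
      obtain ⟨x, hx, e, he, rfl⟩ := hsplit g ((hstab g).1 hga)
      have heb : e • b = b := by
        rw [hb, smul_coset_eq_iff, show u⁻¹ * e * u = u * e * u⁻¹ by rw [huinv'], huinv e he]
        exact hDM (D.inv_mem he)
      rw [mul_smul, heb] at hgb
      have : (⟨x, hx⟩ : Q) = 1 := hφ (Subtype.ext (by simpa [φ] using hgb))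
      rw [show x = 1 from congrArg Subtype.val this, one_mul]
      exact he
    · intro hg
      refine ⟨(hstab g).2 (hDM hg), ?_⟩
      rw [hb, smul_coset_eq_iff, show u⁻¹ * g * u = u * g * u⁻¹ by rw [huinv'], huinv g hg]
      exact hDM (D.inv_mem hg)
  have hthree : ∀ g : G, ∀ x y z : G ⧸ M, x ≠ y → y ≠ z → x ≠ z → g • x = x → g • y = y →
      g • z = z → g = 1 := by
    intro g x y z hxy hyz hxz hgx hgy hgz
    obtain ⟨h, hhx, hhy⟩ := (MulAction.is_two_pretransitive_iff.1 htwo) hxy hab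
    have hfix : ∀ w : G ⧸ M, g • w = w → (h * g * h⁻¹) • (h • w) = h • w := fun w hw => by
      rw [← mul_smul, show h * g * h⁻¹ * h = h * g by group, mul_smul, hw]
    have hgD : h * g * h⁻¹ ∈ D := by
      rw [← hpair, mem_inf, MulAction.mem_stabilizer_iff, MulAction.mem_stabilizer_iff]
      have h1 := hfix x hgx
      have h2 := hfix y hgy
      rw [hhx] at h1
      rw [hhy] at h2
      exact ⟨h1, h2⟩
    obtain ⟨w, hw⟩ := hφb.2 ⟨h • z, fun e => hxz (MulAction.injective h (hhx.trans e.symm))⟩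
    have hw' : (w : G) • b = h • z := congrArg Subtype.val hw
    have hw1 : (w : G) ≠ 1 := fun e => hyz (MulAction.injective h (show h • y = h • z by
      rw [hhy, ← hw', e, one_smul]))
    set k := h * g * h⁻¹ with hk
    have hkb : k • b = b := by
      have : k ∈ MulAction.stabilizer G a ⊓ MulAction.stabilizer G b := hpair.symm ▸ hgD
      exact this.2
    have hkw : k * w * k⁻¹ ∈ Q := (mem_normalizer_iff.1 (hDM hgD) _).1 w.2
    have heq : φ ⟨k * w * k⁻¹, hkw⟩ = φ w := Subtype.ext (by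
      show (k * w * k⁻¹) • b = (w : G) • b
      calc (k * w * k⁻¹) • b = (k * w * k⁻¹) • (k • b) := by rw [hkb]
        _ = k • ((w : G) • b) := by rw [← mul_smul, inv_mul_cancel_right, mul_smul]
        _ = (w : G) • b := by rw [hw']; exact hfix z hgz)
    have hcw : k ∈ centralizer ({(w : G)} : Set G) := mem_centralizer_singleton_iff.2
      (mul_inv_eq_iff_eq_mul.1 (congrArg Subtype.val (hφ heq)))
    rw [hQ _ w.2 hw1] at hcw
    have : k ∈ Q ⊓ D := ⟨hcw, hgD⟩
    rw [hQD, mem_bot, hk] at this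
    exact conj_eq_one_iff.1 this
  haveI hfaith : FaithfulSMul G (G ⧸ M) := by
    refine ⟨fun {g g'} h => ?_⟩
    by_contra hne
    have hk : g'⁻¹ * g ∈ (MulAction.toPermHom G (G ⧸ M)).ker := by
      rw [MonoidHom.mem_ker]
      ext c
      simp [mul_smul, h c]
    set K0 := (MulAction.toPermHom G (G ⧸ M)).ker with hK0
    haveI hK0n : K0.Normal := MonoidHom.normal_ker _
    have hK0M : K0 ≤ M := fun w hw => by
      have h1 : MulAction.toPermHom G (G ⧸ M) w a = a := by rw [MonoidHom.mem_ker.1 hw]; rfl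
      exact (hstab w).1 h1
    have hK0Q : ∀ x ∈ K0, x ∈ Q → x = 1 := fun x hx hxQ =>
      hsep u x huM hxQ (hK0M (by simpa using hK0n.conj_mem x hx u⁻¹))
    obtain ⟨⟨w, hw⟩, hw1⟩ := Subgroup.ne_bot_iff_exists_ne_one.1
      (show Q ≠ ⊥ from fun h => hd1 (by
        have : q = 1 := by rw [hq, h]; exact Subgroup.card_bot
        omega))
    have hw1' : w ≠ 1 := fun h => hw1 (Subtype.ext h)
    have hkQ : g'⁻¹ * g ∈ Q := by
      rw [← hQ w hw hw1', mem_centralizer_singleton_iff]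
      have h1 : (g'⁻¹ * g) * w * (g'⁻¹ * g)⁻¹ * w⁻¹ = 1 := hK0Q _ (by
        rw [show (g'⁻¹ * g) * w * (g'⁻¹ * g)⁻¹ * w⁻¹ =
          (g'⁻¹ * g) * (w * (g'⁻¹ * g)⁻¹ * w⁻¹) by group]
        exact K0.mul_mem hk (hK0n.conj_mem _ (K0.inv_mem hk) w))
        (Q.mul_mem ((mem_normalizer_iff.1 (hK0M hk) w).1 hw) (Q.inv_mem hw))
      rwa [mul_inv_eq_one, mul_inv_eq_iff_eq_mul] at h1
    exact hne (inv_mul_eq_one.1 (hK0Q _ hk hkQ)).symm
  have hZ : Cfsg.IsZassenhausGroup G (G ⧸ M) := by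
    refine ⟨hfaith, htwo, hthree, ?_, fun N hN' htr => ?_⟩
    · obtain ⟨⟨w, hw⟩, hw1⟩ := Subgroup.ne_bot_iff_exists_ne_one.1 hDbot
      refine ⟨w, fun e => hw1 (Subtype.ext e), a, b, hab, ?_⟩
      rw [← hpair] at hw
      exact ⟨hw.1, hw.2⟩
    · by_contra hall
      push Not at hall
      have hst : MulAction.stabilizer N a = ⊥ := hall a
      refine hreg N hN' ?_
      have h1 := MulAction.index_stabilizer N a
      rw [hst, Subgroup.index_bot] at h1
      have h2 : MulAction.orbit N a = Set.univ :=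
        Set.eq_univ_of_forall fun c => htr.exists_smul_eq a c
      rw [h1, h2, Set.ncard_univ, Nat.card_eq_fintype_card, hΩ]
  obtain ⟨K, iK, iKt, -, hK, e⟩ := H59.half_PSL hZ hab (s := u)
    (by rw [hpair, hΩ, ← hdd]; omega) hua hub huu
    (fun x hx y hy => by
      rw [hpair] at hx hy
      exact congrArg Subtype.val (hDc.is_comm.comm ⟨x, hx⟩ ⟨y, hy⟩))
    (fun x hx => huinv x (hpair ▸ hx))
  refine ⟨K, iK, iKt, ?_, e⟩
  omega

end H10.ClassSize
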