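import Cfsg.Agent.H10.ClassSize.Torus
import Cfsg.Agent.H67.CAIdent
import Cfsg.Agent.H37.SmallIsoBase

/-!
The groups of order `(q + 1)(q - 1)q`, `q = 2 ^ f`, with centralizer orders `q`, `q ± 1` are
`PSL₂(q)`.
-/

set_option autoImplicit false
set_option linter.unusedSectionVars false
set_option linter.style.haveILetI false

namespace H10.ClassSize

open Subgroup

/-- For every prime `r`, a subgroup with an abelian subgroup of index at most `2` contains a Sylow
`r`-subgroup. -/
def LocallyHalfAbelian (X : Type*) [Group X] : Prop :=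
  ∀ r : ℕ, r.Prime → ∃ (A : Subgroup X) (s : X), (∀ x ∈ A, ∀ y ∈ A, Commute x y) ∧
    (∀ x ∈ A, s * x * s⁻¹ ∈ A) ∧ ¬ r ∣ (A ⊔ zpowers s).index

theorem exists_local_of_abelian {X : Type*} [Group X] {r : ℕ} (A : Subgroup X)
    (hA : ∀ x ∈ A, ∀ y ∈ A, Commute x y) (hr : ¬ r ∣ A.index) :
    ∃ (A : Subgroup X) (s : X), (∀ x ∈ A, ∀ y ∈ A, Commute x y) ∧
      (∀ x ∈ A, s * x * s⁻¹ ∈ A) ∧ ¬ r ∣ (A ⊔ zpowers s).index :=
  ⟨A, 1, hA, fun x hx => by simpa using hx, by simpa using hr⟩

variable {X : Type*} [Group X] [Fintype X] [DecidableEq X]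

theorem dvd_cc_of_dvd_orderOf {x : X} {r : ℕ} (h : r ∣ orderOf x) : r ∣ cc x := by
  refine h.trans ?_
  rw [← orderOf_mk x (H := centralizer ({x} : Set X)) (H27.mem_cent.2 rfl)]
  exact orderOf_dvd_natCard _

theorem index_of_cc {x : X} {c m : ℕ} (hc : 0 < c) (hX : Nat.card X = c * m) (h : cc x = c) :
    (centralizer ({x} : Set X)).index = m := by
  have h1 := H27.card_cent_mul_index x
  rw [show Nat.card (centralizer ({x} : Set X)) = c from h, hX] at h1
  exact Nat.eq_of_mul_eq_mul_left hc h1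

theorem isConj_of_card {x y : X} {c : ℕ} (hx : x ∈ ofCent X c) (hy : y ∈ ofCent X c)
    (h : (ofCent X c).card ≤ (centralizer ({x} : Set X)).index) : IsConj x y := by
  classical
  have hsub : (ConjClasses.mk x).carrier.toFinset ⊆ ofCent X c := fun w hw => by
    rw [Set.mem_toFinset, ConjClasses.mem_carrier_iff_mk_eq, ConjClasses.mk_eq_mk_iff_isConj] at hw
    obtain ⟨g, hg⟩ := isConj_iff.1 hw.symm
    exact hg ▸ ofCent_conj g hx
  have heq := Finset.eq_of_subset_of_card_le hsub (by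
    rw [← Nat.card_eq_card_toFinset, H27.card_carrier_eq_index]; exact h)
  rw [← heq, Set.mem_toFinset, ConjClasses.mem_carrier_iff_mk_eq] at hy
  exact ConjClasses.mk_eq_mk_iff_isConj.1 hy.symm

theorem local_of_torus {a m : ℕ} (H : TorusHyp X a m) {r : ℕ} (hr : r.Prime) (hra : r ∣ a) :
    ∃ (A : Subgroup X) (s : X), (∀ x ∈ A, ∀ y ∈ A, Commute x y) ∧
      (∀ x ∈ A, s * x * s⁻¹ ∈ A) ∧ ¬ r ∣ (A ⊔ zpowers s).index := by
  have hne : (ofCent X a).Nonempty := by
    rw [← Finset.card_pos]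
    have := H.count
    have := Nat.mul_pos (show 0 < a - 1 by have := H.ha; omega) H.m_pos
    omega
  obtain ⟨x, hx⟩ := hne
  refine exists_local_of_abelian (centralizer ({x} : Set X))
    (fun y hy w hw => H.torus_comm hx hy hw) ?_
  rw [index_of_cc (by have := H.ha; omega) H.card (mem_ofCent.1 hx).2]
  exact fun h => hr.ne_one (Nat.eq_one_of_dvd_coprimes H.cop hra h)

/-- The even characteristic recognition. -/
theorem even_main {f : ℕ} (hf : 2 ≤ f) {q : ℕ} (hq : q = 2 ^ f)
    (hX : Nat.card X = (q + 1) * (q - 1) * q)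
    (hc : ∀ x : X, x ≠ 1 → cc x = q ∨ cc x = q + 1 ∨ cc x = q - 1)
    {F : Type*} [Field F] [Fintype F] (hF : Fintype.card F = q) :
    Nonempty (X ≃* Matrix.ProjectiveSpecialLinearGroup (Fin 2) F) ∧ LocallyHalfAbelian X := by
  classical
  haveI : Fact (Nat.Prime 2) := ⟨Nat.prime_two⟩
  have hq4 : 4 ≤ q := hq ▸ (Nat.pow_le_pow_right (by norm_num) hf : 2 ^ 2 ≤ 2 ^ f)
  obtain ⟨k₀, hk₀⟩ : 2 ∣ q := hq ▸ dvd_pow_self 2 (by omega)
  obtain ⟨r₀, hr₀⟩ : ∃ r₀, q = r₀ + 1 := ⟨q - 1, by omega⟩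
  have hqm : q - 1 = r₀ := by omega
  have co1 : (q + 1).Coprime q := by simp
  have co2 : (q - 1).Coprime q := by
    rw [hr₀]
    simp
  have co3 : (q + 1).Coprime (q - 1) := by
    rw [show q + 1 = q - 1 + 2 by omega, Nat.coprime_self_add_left, Nat.coprime_two_left]
    exact ⟨k₀ - 1, by omega⟩
  -- the tori
  have Ha : TorusHyp X (q + 1) ((q - 1) * q) := by
    refine ⟨by omega, ⟨k₀, by omega⟩, by rw [hX, mul_assoc], ⟨q - 2, ?_⟩,
      Nat.Coprime.mul_right co3 co1, fun x hx => ?_⟩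
    · obtain ⟨t, rfl⟩ : ∃ t, q = t + 2 := ⟨q - 2, by omega⟩
      simp only [Nat.add_sub_cancel, show t + 2 - 1 = t + 1 by omega]
      ring
    · rcases hc x hx with h | h | h <;> rw [h]
      exacts [Or.inr co1.symm, Or.inl rfl, Or.inr co3.symm]
  have Hb : TorusHyp X (q - 1) ((q + 1) * q) := by
    refine ⟨by omega, ⟨k₀ - 1, by omega⟩, by rw [hX]; ring, ⟨q + 2, ?_⟩,
      Nat.Coprime.mul_right co3.symm co2, fun x hx => ?_⟩
    · rw [hqm, hr₀]; ring
    · rcases hc x hx with h | h | h <;> rw [h]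
      exacts [Or.inr co2.symm, Or.inr co3, Or.inl rfl]
  -- one class of elements with centralizer of order `q`
  have hm : 0 < (q + 1) * (q - 1) := Nat.mul_pos (by omega) (by omega)
  obtain ⟨k, hk, hd, hlt⟩ := count_class (X := X) (c := q) (m := (q + 1) * (q - 1)) (by omega) hm
    (by rw [hX, mul_comm]) (fun x hx => by
      rcases hc x hx with h | h | h <;> rw [h]
      exacts [Or.inl rfl, Or.inr co1, Or.inr co2])
  have hk1 : k = 1 := by
    rcases Nat.eq_zero_or_pos k with rfl | hk0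
    · simp at hd; omega
    · obtain ⟨k', rfl⟩ : ∃ k', k = k' + 1 := ⟨k - 1, by omega⟩
      have h1 : q ∣ k' := by
        have h2 : q ∣ 1 + (k' + 1) * ((q + 1) * (q - 1)) + k' := by
          refine ⟨(k' + 1) * q, ?_⟩
          rw [hqm, hr₀]; ring
        exact (Nat.dvd_add_right hd).1 h2
      have := Nat.eq_zero_of_dvd_of_lt h1 (by omega)
      omega
  rw [hk1, one_mul] at hk
  have hidx : ∀ x ∈ ofCent X q, (centralizer ({x} : Set X)).index = (q + 1) * (q - 1) := fun x hx =>
    index_of_cc (by omega) (by rw [hX, mul_comm]) (mem_ofCent.1 hx).2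
  have hev : ∀ x : X, x ≠ 1 → 2 ∣ cc x → x ∈ ofCent X q := fun x hx h2 => by
    refine mem_ofCent.2 ⟨hx, ?_⟩
    rcases hc x hx with h | h | h
    · exact h
    all_goals (rw [h] at h2; omega)
  obtain ⟨t, ht⟩ := exists_prime_orderOf_dvd_card' (G := X) 2
    (hX ▸ (Dvd.intro _ hk₀.symm).mul_left _)
  have ht1 : t ≠ 1 := fun h => by rw [h, orderOf_one] at ht; omega
  have htS := hev t ht1 (dvd_cc_of_dvd_orderOf ht.symm.dvd)
  have hinv : ∀ x ∈ ofCent X q, orderOf x = 2 := fun x hx => by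
    obtain ⟨g, rfl⟩ := isConj_iff.1 (isConj_of_card htS hx (by rw [hk, hidx t htS]))
    rw [← ht]
    exact orderOf_injective (MulAut.conj g).toMonoidHom (MulAut.conj g).injective t
  have hexp : ∀ t : X, orderOf t = 2 → ∀ y ∈ centralizer ({t} : Set X), y ^ 2 = 1 := by
    intro t ht y hy
    by_cases hy1 : y = 1
    · simp [hy1]
    have ht1 : t ≠ 1 := fun h => by rw [h, orderOf_one] at ht; omega
    have htq : cc t = q := (mem_ofCent.1 (hev t ht1 (dvd_cc_of_dvd_orderOf ht.symm.dvd))).2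
    have hdq : orderOf y ∣ 2 ^ f := by
      rw [← hq, ← htq, ← orderOf_mk y hy]
      exact orderOf_dvd_natCard _
    obtain ⟨j, -, hj⟩ := (Nat.dvd_prime_pow Nat.prime_two).1 hdq
    have hj0 : j ≠ 0 := fun h => hy1 (orderOf_eq_one_iff.1 (by rw [hj, h, pow_zero]))
    rw [← hinv y (hev y hy1 (dvd_cc_of_dvd_orderOf (hj ▸ dvd_pow_self 2 hj0)))]
    exact pow_orderOf_eq_one y
  have habel : ∀ t : X, orderOf t = 2 → ∀ x ∈ centralizer ({t} : Set X),
      ∀ y ∈ centralizer ({t} : Set X), Commute x y := by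
    intro t ht x hx y hy
    have hxy := hexp t ht _ (mul_mem hx hy)
    have hx' := hexp t ht _ hx
    have hy' := hexp t ht _ hy
    rw [pow_two] at hxy hx' hy'
    show x * y = y * x
    calc x * y = (x * y)⁻¹ := eq_inv_of_mul_eq_one_left hxy
      _ = y * x := by
        rw [mul_inv_rev, inv_eq_of_mul_eq_one_right hx', inv_eq_of_mul_eq_one_right hy']
  have htidx : (centralizer ({t} : Set X)).index = (q + 1) * (q - 1) := hidx t htS
  have hodd : ¬ 2 ∣ (q + 1) * (q - 1) := fun h => by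
    rcases (Nat.Prime.dvd_mul Nat.prime_two).1 h with h | h <;> omega
  obtain ⟨T⟩ : Nonempty (Sylow 2 X) := inferInstance
  have hT : Nat.card (T : Subgroup X) = q := by
    obtain ⟨P, hP⟩ := H27.exists_sylow_le_of_not_dvd_index (htidx ▸ hodd)
    have hTP : Nat.card (T : Subgroup X) = Nat.card (P : Subgroup X) := by
      rw [T.card_eq_multiplicity, P.card_eq_multiplicity]
    rw [hTP, ← (P.is_maximal' (IsPGroup.of_card (n := f) ((mem_ofCent.1 htS).2.trans hq)) hP)]
    exact (mem_ofCent.1 htS).2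
  constructor
  · have hd : H67.CAData T := by
      refine ⟨fun hcyc => ?_, fun hnor => ?_, fun t ht => ⟨⟨⟨fun x y => Subtype.ext
        (habel t ht _ x.2 _ y.2)⟩⟩, hexp t ht⟩⟩
      · obtain ⟨w, hw⟩ := IsCyclic.exists_ofOrder_eq_natCard (α := (T : Subgroup X))
        rw [hT, ← orderOf_coe] at hw
        have hw1 : (w : X) ≠ 1 := fun h => by rw [h, orderOf_one] at hw; omega
        rw [hinv w (hev _ hw1 (dvd_cc_of_dvd_orderOf (by rw [hw]; exact ⟨k₀, hk₀⟩)))] at hw
        omega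
      · have hsub : ofCent X q ⊆ Finset.univ.filter (fun y => y ∈ (T : Subgroup X)) := fun x hx => by
          obtain ⟨P, hP⟩ := (IsPGroup.of_card (p := 2) (G := zpowers x) (n := 1)
            (by rw [Nat.card_zpowers, hinv x hx, pow_one])).exists_le_sylow
          obtain ⟨g, rfl⟩ := MulAction.exists_smul_eq X T P
          rw [T.smul_eq_of_normal] at hP
          simp [hP (mem_zpowers x)]
        have hle := Finset.card_le_card hsub
        rw [hk, ← Fintype.card_subtype, ← Nat.card_eq_fintype_card,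
          show Nat.card {y // y ∈ (T : Subgroup X)} = q from hT] at hle
        have : (q + 1) * 3 ≤ (q + 1) * (q - 1) := Nat.mul_le_mul_left _ (by omega)
        omega
    obtain ⟨F', i1, i2, hF', ⟨e⟩⟩ := hd.exists_iso_PSL
    exact ⟨e.trans (H37.pslCongr (FiniteField.ringEquivOfCardEq (hF'.trans (hT.trans hF.symm))))⟩
  · intro r hr
    by_cases h2 : r = 2
    · subst h2
      exact exists_local_of_abelian _ (habel t ht) (htidx ▸ hodd)
    by_cases ha : r ∣ q + 1
    · exact local_of_torus Ha hr ha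
    by_cases hb : r ∣ q - 1
    · exact local_of_torus Hb hr hb
    refine exists_local_of_abelian ⊥ (fun x hx y _ => by
      rw [mem_bot.1 hx]; exact Commute.one_left y) ?_
    rw [index_bot, hX]
    intro h
    rcases hr.dvd_mul.1 h with h | h
    · rcases hr.dvd_mul.1 h with h | h
      exacts [ha h, hb h]
    · exact h2 ((Nat.prime_dvd_prime_iff_eq hr Nat.prime_two).1 (hr.dvd_of_dvd_pow (hq ▸ h)))

end H10.ClassSize
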