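import Cfsg.Agent.H10.ClassSize.Even
import Cfsg.Agent.H5.AbelianHall
import Cfsg.Agent.H1.SchurZassenhausConj

/-!
A central extension of a simple group in which commuting images come from commuting elements, the
simple group having locally abelian subgroups of index `2`, splits.
-/

set_option autoImplicit false
set_option linter.unusedSectionVars false
set_option linter.style.haveILetI false

namespace H10.ClassSize

open Subgroup
open scoped commutatorElement

variable {G : Type*} [Group G] [Finite G]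

/-- The commutators of an abelian subgroup extended by one element. -/
theorem commutator_of_sup_zpowers (A : Subgroup G) (s : G)
    (hA : ∀ x ∈ A, ∀ y ∈ A, Commute x y) (hs : ∀ x ∈ A, s * x * s⁻¹ ∈ A) :
    ⁅A ⊔ zpowers s, A ⊔ zpowers s⁆ ≤
      (closure ((fun k => k * (s * k * s⁻¹)⁻¹) '' (A : Set G)) : Subgroup G) ∧
    ∀ z ∈ (closure ((fun k => k * (s * k * s⁻¹)⁻¹) '' (A : Set G)) : Subgroup G),
      ∃ k ∈ A, z = k * (s * k * s⁻¹)⁻¹ := by
  set M : Subgroup G := closure ((fun k => k * (s * k * s⁻¹)⁻¹) '' (A : Set G)) with hMdef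
  have hgen : ∀ k ∈ A, k * (s * k * s⁻¹)⁻¹ ∈ M := fun k hk => subset_closure ⟨k, hk, rfl⟩
  have hmul : ∀ k ∈ A, ∀ l ∈ A, k * l * (s * (k * l) * s⁻¹)⁻¹ =
      k * (s * k * s⁻¹)⁻¹ * (l * (s * l * s⁻¹)⁻¹) := by
    intro k hk l hl
    have h1 : Commute (s * k * s⁻¹)⁻¹ (l * (s * l * s⁻¹)⁻¹) :=
      hA _ (A.inv_mem (hs k hk)) _ (A.mul_mem hl (A.inv_mem (hs l hl)))
    rw [show s * (k * l) * s⁻¹ = (s * k * s⁻¹) * (s * l * s⁻¹) by group, mul_inv_rev,
      mul_assoc k (s * k * s⁻¹)⁻¹, h1.eq]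
    group
  have hM : ∀ z ∈ M, ∃ k ∈ A, z = k * (s * k * s⁻¹)⁻¹ := by
    intro z hz
    induction hz using closure_induction with
    | mem y hy => obtain ⟨k, hk, rfl⟩ := hy; exact ⟨k, hk, rfl⟩
    | one => exact ⟨1, A.one_mem, by group⟩
    | mul x y _ _ hx hy =>
      obtain ⟨k, hk, rfl⟩ := hx
      obtain ⟨l, hl, rfl⟩ := hy
      exact ⟨k * l, A.mul_mem hk hl, (hmul k hk l hl).symm⟩
    | inv x _ hx =>
      obtain ⟨k, hk, rfl⟩ := hx
      refine ⟨k⁻¹, A.inv_mem hk, inv_eq_of_mul_eq_one_right ?_⟩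
      rw [← hmul k hk k⁻¹ (A.inv_mem hk)]
      group
  refine ⟨?_, hM⟩
  have hMA : ∀ z ∈ M, z ∈ A := fun z hz => by
    obtain ⟨k, hk, rfl⟩ := hM z hz
    exact A.mul_mem hk (A.inv_mem (hs k hk))
  have hnorm : ∀ (i : ℕ), ∀ k ∈ A, s ^ i * k * (s ^ i)⁻¹ ∈ A := by
    intro i
    induction i with
    | zero => intro k hk; simpa using hk
    | succ i ih =>
      intro k hk
      rw [pow_succ', show s * s ^ i * k * (s * s ^ i)⁻¹ = s * (s ^ i * k * (s ^ i)⁻¹) * s⁻¹ by group]
      exact hs _ (ih k hk)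
  have hpow : ∀ (i : ℕ), ∀ k ∈ A, k * (s ^ i * k * (s ^ i)⁻¹)⁻¹ ∈ M := by
    intro i
    induction i with
    | zero => intro k hk; simp [M.one_mem]
    | succ i ih =>
      intro k hk
      have h1 := M.mul_mem (ih k hk) (hgen _ (hnorm i k hk))
      convert h1 using 1
      rw [pow_succ']
      group
  have hN : zpowers s ≤ normalizer (A : Set G) := by
    refine zpowers_le.2 (mem_normalizer_iff.2 fun x => ⟨hs x, fun hx => ?_⟩)
    have h1 : s ^ (orderOf s - 1) = s⁻¹ := by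
      refine eq_inv_of_mul_eq_one_left ?_
      rw [← pow_succ, Nat.sub_add_cancel (orderOf_pos s), pow_orderOf_eq_one]
    have h2 := hnorm (orderOf s - 1) _ hx
    rw [h1] at h2
    simpa [mul_assoc] using h2
  rw [commutator_le]
  intro g hg h hh
  obtain ⟨k, hk, w, hw, rfl⟩ := H1.exists_mul_of_mem_sup hN hg
  obtain ⟨l, hl, v, hv, rfl⟩ := H1.exists_mul_of_mem_sup hN hh
  rw [← mem_powers_iff_mem_zpowers] at hw hv
  obtain ⟨i, rfl⟩ := hw
  obtain ⟨j, rfl⟩ := hv
  dsimp only at *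
  have hwv : Commute (s ^ i) (s ^ j) := Commute.pow_pow_self s i j
  have key : ⁅k * s ^ i, l * s ^ j⁆ =
      (k * (s ^ j * k * (s ^ j)⁻¹)⁻¹) * (l * (s ^ i * l * (s ^ i)⁻¹)⁻¹)⁻¹ := by
    have e1 : ⁅k * s ^ i, l * s ^ j⁆ =
        k * (s ^ i * l * (s ^ i)⁻¹) * ((s ^ j * k * (s ^ j)⁻¹)⁻¹) * l⁻¹ := by
      rw [commutatorElement_def]
      calc k * s ^ i * (l * s ^ j) * (k * s ^ i)⁻¹ * (l * s ^ j)⁻¹
          = k * (s ^ i * l * (s ^ i)⁻¹) * (s ^ i * s ^ j * (s ^ i)⁻¹) * k⁻¹ * (s ^ j)⁻¹ * l⁻¹ := by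
            group
        _ = _ := by rw [hwv.eq, mul_inv_cancel_right]; group
    have h2 : Commute (s ^ i * l * (s ^ i)⁻¹) (s ^ j * k * (s ^ j)⁻¹)⁻¹ :=
      hA _ (hnorm i l hl) _ (A.inv_mem (hnorm j k hk))
    rw [e1, mul_assoc k, h2.eq, mul_inv_rev, inv_inv]
    group
  rw [key]
  exact M.mul_mem (hpow j k hk) (M.inv_mem (hpow i l hl))

theorem split (hloc : LocallyHalfAbelian (G ⧸ center G))
    (hcomm : ∀ x y : G, Commute (x : G ⧸ center G) (y : G ⧸ center G) → Commute x y)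
    [IsSimpleGroup (G ⧸ center G)] (hnc : ∃ x y : G ⧸ center G, x * y ≠ y * x) :
    ∃ N A : Subgroup G, N.Normal ∧ A ≤ center G ∧ N ⊓ A = ⊥ ∧ N ⊔ A = ⊤ ∧
      Nonempty (N ≃* G ⧸ center G) := by
  set π := QuotientGroup.mk' (center G) with hπ
  have hsurj : Function.Surjective π := QuotientGroup.mk'_surjective _
  have htop : (commutator G).map π = ⊤ := by
    rcases ((inferInstance : (commutator G).Normal).map π hsurj).eq_bot_or_eq_top with h | h
    · exfalso
      obtain ⟨x, y, hxy⟩ := hnc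
      obtain ⟨g, rfl⟩ := hsurj x
      obtain ⟨g', rfl⟩ := hsurj y
      have h1 : π ⁅g, g'⁆ ∈ (commutator G).map π :=
        mem_map_of_mem π (commutator_mem_commutator (mem_top g) (mem_top g'))
      rw [h, mem_bot, map_commutatorElement, commutatorElement_eq_one_iff_mul_comm] at h1
      exact hxy h1
    · exact h
  have hsup : commutator G ⊔ center G = ⊤ := by
    rw [← QuotientGroup.ker_mk' (center G), ← comap_map_eq, htop, comap_top]
  have hinf : commutator G ⊓ center G = ⊥ := by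
    by_contra hne
    haveI : Nontrivial (commutator G ⊓ center G : Subgroup G) := (nontrivial_iff_ne_bot _).2 hne
    obtain ⟨r, hr, hrd⟩ := Nat.exists_prime_and_dvd
      (n := Nat.card (commutator G ⊓ center G : Subgroup G)) Finite.one_lt_card.ne'
    haveI : Fact r.Prime := ⟨hr⟩
    obtain ⟨⟨z, hz'⟩, hz⟩ := exists_prime_orderOf_dvd_card' r hrd
    rw [orderOf_mk] at hz
    obtain ⟨hzG, hzZ⟩ := hz'
    obtain ⟨A, s, hA, hs, hidx⟩ := hloc r hr
    obtain ⟨s₀, rfl⟩ := hsurj s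
    set A' := A.comap π with hA'
    set H := A' ⊔ zpowers s₀ with hHdef
    have hker : π.ker ≤ A' := fun x hx => by
      rw [hA', mem_comap, MonoidHom.mem_ker.1 hx]
      exact A.one_mem
    have hA'c : ∀ x ∈ A', ∀ y ∈ A', Commute x y := fun x hx y hy => hcomm x y (hA _ hx _ hy)
    have hA's : ∀ x ∈ A', s₀ * x * s₀⁻¹ ∈ A' := fun x hx => by
      rw [hA', mem_comap, map_mul, map_mul, map_inv]
      exact hs _ hx
    have hH : H.index = (A ⊔ zpowers (π s₀)).index := by
      rw [← index_comap_of_surjective (A ⊔ zpowers (π s₀)) hsurj]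
      congr 1
      rw [← comap_map_eq_self (H := H) (hker.trans le_sup_left), hHdef, Subgroup.map_sup,
        map_comap_eq_self_of_surjective hsurj, MonoidHom.map_zpowers]
    have hzker : z ∈ π.ker := by rw [hπ, QuotientGroup.ker_mk']; exact hzZ
    have hzH : z ∈ H := (le_sup_left : A' ≤ H) (hker hzker)
    have h1 := H5.map_pow_index_eq_one_of_central (Abelianization.of (G := H)) hzH hzZ hzG
    have h2 : Abelianization.of (⟨z, hzH⟩ : H) = 1 := by
      have h3 : Abelianization.of (⟨z, hzH⟩ : H) ^ r = 1 := by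
        rw [← map_pow, show (⟨z, hzH⟩ : H) ^ r = 1 from Subtype.ext (by
          rw [SubmonoidClass.coe_pow]
          show z ^ r = 1
          rw [← hz]; exact pow_orderOf_eq_one z), map_one]
      have := pow_gcd_eq_one.2 ⟨h1, h3⟩
      rwa [((hr.coprime_iff_not_dvd.2 (hH ▸ hidx)).symm).gcd_eq_one, pow_one] at this
    have h4 : (⟨z, hzH⟩ : H) ∈ commutator H := (QuotientGroup.eq_one_iff _).1 h2
    have h5 : z ∈ (commutator H).map H.subtype := ⟨_, h4, rfl⟩
    rw [_root_.commutator_def, map_commutator, ← MonoidHom.range_eq_map, range_subtype] at h5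
    obtain ⟨hle, hform⟩ := commutator_of_sup_zpowers A' s₀ hA'c hA's
    obtain ⟨k, -, hk⟩ := hform z (hle h5)
    have hπz : π k * (π (s₀ * k * s₀⁻¹))⁻¹ = 1 := by
      rw [← map_inv, ← map_mul, ← hk]
      exact MonoidHom.mem_ker.1 hzker
    rw [mul_inv_eq_one, map_mul, map_mul, map_inv, eq_mul_inv_iff_mul_eq] at hπz
    have hc : Commute k s₀ := hcomm k s₀ hπz
    have : z = 1 := by rw [hk, hc.symm.eq]; group
    rw [this, orderOf_one] at hz
    exact hr.ne_one hz.symm
  refine ⟨commutator G, center G, inferInstance, le_rfl, hinf, hsup, ⟨MulEquiv.ofBijective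
    (π.comp (commutator G).subtype) ⟨?_, ?_⟩⟩⟩
  · rw [← MonoidHom.ker_eq_bot_iff, eq_bot_iff]
    intro x hx
    rw [MonoidHom.mem_ker, MonoidHom.comp_apply, ← MonoidHom.mem_ker, hπ, QuotientGroup.ker_mk'] at hx
    have : (x : G) ∈ commutator G ⊓ center G := ⟨x.2, hx⟩
    rw [hinf, mem_bot] at this
    exact Subtype.ext this
  · intro y
    have hy : y ∈ (commutator G).map π := htop ▸ mem_top y
    obtain ⟨x, hx, rfl⟩ := hy
    exact ⟨⟨x, hx⟩, rfl⟩

end H10.ClassSize
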