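import Cfsg.Agent.H10.ClassSize.Quot
import Cfsg.Agent.H10.ClassSize.Split
import Cfsg.Agent.S2507

/-!
Groups with the class sizes of `PSL₂(2 ^ f)`.
-/

set_option autoImplicit false
set_option linter.unusedSectionVars false
set_option linter.style.haveILetI false

namespace H10.ClassSize

open Subgroup

theorem psl_noncomm {F : Type*} [Field F] [Fintype F] (h4 : 4 ≤ Fintype.card F) :
    ∃ x y : Matrix.ProjectiveSpecialLinearGroup (Fin 2) F, x * y ≠ y * x := by
  classical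
  by_contra! hall
  haveI := Matrix.ProjectiveSpecialLinearGroup.rank_two_simple (F := F)
    (by rw [Nat.card_eq_fintype_card]; exact h4)
  letI : CommGroup (Matrix.ProjectiveSpecialLinearGroup (Fin 2) F) :=
    { (inferInstance : Group (Matrix.ProjectiveSpecialLinearGroup (Fin 2) F)) with
      mul_comm := hall }
  have hp : (Nat.card (Matrix.ProjectiveSpecialLinearGroup (Fin 2) F)).Prime :=
    IsSimpleGroup.prime_card
  have hcard := H39.card_G2_eq (F := F)
  rw [hcard] at hp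
  rcases Nat.prime_mul_iff.1 hp with ⟨-, h⟩ | ⟨-, h⟩
  · omega
  · have := (mul_eq_one.1 h).1
    omega

theorem split_of_iso {G : Type*} [Group G] [Finite G] {F : Type*} [Field F] [Fintype F]
    (h4 : 4 ≤ Fintype.card F)
    (e : G ⧸ center G ≃* Matrix.ProjectiveSpecialLinearGroup (Fin 2) F)
    (hloc : LocallyHalfAbelian (G ⧸ center G))
    (hcomm : ∀ x y : G, Commute (x : G ⧸ center G) (y : G ⧸ center G) → Commute x y) :
    ∃ N A : Subgroup G, N.Normal ∧ A ≤ center G ∧ N ⊓ A = ⊥ ∧ N ⊔ A = ⊤ ∧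
      Nonempty (N ≃* Matrix.ProjectiveSpecialLinearGroup (Fin 2) F) := by
  haveI := Matrix.ProjectiveSpecialLinearGroup.rank_two_simple (F := F)
    (by rw [Nat.card_eq_fintype_card]; exact h4)
  haveI : IsSimpleGroup (G ⧸ center G) := MulEquiv.isSimpleGroup e
  obtain ⟨x, y, hxy⟩ := psl_noncomm (F := F) h4
  obtain ⟨N, A, h1, h2, h3, h4, ⟨e'⟩⟩ := split hloc hcomm
    ⟨e.symm x, e.symm y, fun h => hxy (by simpa using congrArg e h)⟩
  exact ⟨N, A, h1, h2, h3, h4, ⟨e'.trans e⟩⟩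

theorem even_split {F : Type*} [Field F] [Fintype F] (h2 : 2 ∣ Fintype.card F)
    (h4 : 4 ≤ Fintype.card F) {G : Type*} [Group G] [Finite G]
    (h : Set.range (fun g : G => (centralizer ({g} : Set G)).index) =
      Set.range (fun g : Matrix.ProjectiveSpecialLinearGroup (Fin 2) F =>
        (centralizer ({g} : Set (Matrix.ProjectiveSpecialLinearGroup (Fin 2) F))).index)) :
    ∃ N A : Subgroup G, N.Normal ∧ A ≤ center G ∧ N ⊓ A = ⊥ ∧ N ⊔ A = ⊤ ∧
      Nonempty (N ≃* Matrix.ProjectiveSpecialLinearGroup (Fin 2) F) := by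
  classical
  rw [Cfsg.Agent.S2507.result h2 h4] at h
  obtain ⟨p, hp⟩ := CharP.exists F
  obtain ⟨f, hpp, hf⟩ := FiniteField.card F p
  obtain rfl : p = 2 :=
    ((Nat.prime_dvd_prime_iff_eq Nat.prime_two hpp).1 (Nat.prime_two.dvd_of_dvd_pow (hf ▸ h2))).symm
  set q := Fintype.card F with hq
  obtain ⟨r, hr⟩ : ∃ r, q = r + 1 := ⟨q - 1, by omega⟩
  obtain ⟨k, hk⟩ := h2
  have hsq : q ^ 2 - 1 = (q + 1) * (q - 1) := by
    rw [← Nat.sq_sub_sq, one_pow]
  have P : Params 2 q 1 (q + 1) (q - 1) := by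
    refine ⟨Nat.prime_two, ⟨f, hf⟩, by omega, by omega, by omega, ⟨k, by omega⟩, ?_, by simp, ?_,
      Or.inl ⟨rfl, ⟨k - 1, by omega⟩, rfl⟩⟩
    · rw [show q + 1 = q - 1 + 2 by omega, Nat.coprime_self_add_left, Nat.coprime_two_left]
      exact ⟨k - 1, by omega⟩
    · rw [hr]; simp
  have S : Sizes G 2 q 1 (q + 1) (q - 1) := by
    refine ⟨P, h.trans ?_⟩
    ext m
    simp only [Set.mem_insert_iff, Set.mem_singleton_iff, one_mul, hsq]
    tauto
  haveI := Fintype.ofFinite (G ⧸ center G)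
  have hf2 : 2 ≤ (f : ℕ) := by
    by_contra hc
    have : (2 : ℕ) ^ (f : ℕ) ≤ 2 ^ 1 := Nat.pow_le_pow_right (by norm_num) (by omega)
    omega
  obtain ⟨⟨e⟩, hloc⟩ := even_main (X := G ⧸ center G) hf2 hf (F := F)
    (by rw [S.card_quot, one_mul])
    (fun x hx => by
      rcases S.cent_quot x hx with h | h | h | h
      exacts [Or.inl h, Or.inr (Or.inl h), Or.inr (Or.inr h), Or.inr (Or.inr (by rwa [one_mul] at h))])
    hq.symm
  exact split_of_iso h4 e hloc fun x y hxy =>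
    S.commute_of_quot (fun _ _ _ _ _ _ he => by simp at he) hxy

end H10.ClassSize
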