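import Cfsg.Agent.H10.ClassSize.OddEq
import Cfsg.Agent.H10.ClassSize.BSWGen
import Cfsg.Agent.S3282
import Cfsg.Agent.H39.Dickson

/-!
The groups of order `q(q² - 1)/2` with centralizer orders `q`, `a`, `b`, `2b` are `PSL₂(q)`.
-/

set_option autoImplicit false
set_option linter.unusedSectionVars false
set_option linter.style.haveILetI false

namespace H10.ClassSize

open Subgroup

variable {X : Type*} [Group X] [Fintype X] [DecidableEq X]

namespace OddHyp

variable {q a b : ℕ} (H : OddHyp X q a b)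

include H

theorem invol_of_cc {x : X} (hx : x ≠ 1) (h : cc x = 2 * b) : orderOf x = 2 := by
  classical
  by_contra hne
  obtain ⟨t, ht⟩ := H.exists_invol
  have hxB : x ∈ bSet X b := mem_bSet.2 ⟨hx, Or.inr h⟩
  have hc := (H.exact_counts ht).2 x hxB
  obtain ⟨s, hs⟩ : (invs x).Nonempty := by rw [← Finset.card_pos, hc]; exact H.bpos
  have h2 := (H.inverted hxB hne hs).1
  have := H.hb
  omega

theorem conj_of_cc {x y : X} (hx : x ≠ 1) (hy : y ≠ 1) (hx' : cc x = 2 * b) (hy' : cc y = 2 * b) :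
    IsConj x y :=
  (H.invol_conj (H.invol_of_cc hx hx') (H.invol_of_cc hy hy')).1

/-- An abelian subgroup of index two in the centralizer of an involution, trivially intersecting
its conjugates. -/
theorem exists_wall : ∃ (t s : X) (K : Subgroup X), orderOf t = 2 ∧ orderOf s = 2 ∧
    IsMulCommutative K ∧ K ≤ centralizer ({t} : Set X) ∧ t ∈ K ∧
    s ∈ centralizer ({t} : Set X) ∧ s ∉ K ∧ K ⊔ zpowers s = centralizer ({t} : Set X) ∧
    K ⊓ centralizer ({s} : Set X) = zpowers t ∧ (∀ x ∈ K, s * x * s⁻¹ = x⁻¹) ∧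
    ∀ g : X, g ∉ centralizer ({t} : Set X) → K ⊓ K.map (MulAut.conj g).toMonoidHom = ⊥ := by
  classical
  obtain ⟨t₁, ht₁⟩ := H.exists_invol
  obtain ⟨hm, hall⟩ := H.exact_counts ht₁
  obtain ⟨x, hx⟩ : (bSet X b \ involsF X).Nonempty := by
    rw [← Finset.card_pos, (H.count_mI ht₁).2]
    exact Nat.mul_pos (Nat.mul_pos H.qpos H.apos) (by have := H.hb; omega)
  obtain ⟨hxB, hxI⟩ := Finset.mem_sdiff.1 hx
  have hx2 : orderOf x ≠ 2 := fun h => hxI (mem_involsF.2 h)
  obtain ⟨s, hs⟩ : (invs x).Nonempty := by rw [← Finset.card_pos, hall x hxB]; exact H.bpos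
  obtain ⟨hxb, hsL, hnorm, t, ht, htL, hts, hle, hsplit⟩ := H.inverted hxB hx2 hs
  set L := centralizer ({x} : Set X) with hL
  have hso := (mem_invs.1 hs).1
  have hmt : mI t = b + 1 := (H.mI_invol ht ht₁).trans hm
  have hm1 := H.mI_eq_one ht hmt
  -- the coset `L s` consists of inverting involutions
  have hcoset : ∀ k ∈ L, k * s ∈ invs x := by
    have hsub : invs x ⊆ (Finset.univ.filter fun g => g ∈ L).image (· * s) := by
      intro r hr
      obtain ⟨-, hrL, -, -⟩ := H.inverted hxB hx2 hr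
      have h1 : r * s⁻¹ ∈ centralizer ({x} : Set X) := H27.mem_cent.2 (by
        have e1 := conj_eq_inv_of_mem_invs hs
        have e2 := conj_eq_inv_of_mem_invs hr
        have e3 : s⁻¹ * x * s = x⁻¹ := by rwa [inv_eq_self hso] at e1 ⊢
        calc r * s⁻¹ * x = r * (s⁻¹ * x * s) * s⁻¹ := by group
          _ = (r * x * r⁻¹)⁻¹ * r * s⁻¹ := by rw [e3]; group
          _ = x * (r * s⁻¹) := by rw [e2]; group)
      exact Finset.mem_image.2 ⟨r * s⁻¹, by simpa using h1, by group⟩
    have heq := Finset.eq_of_subset_of_card_le hsub (by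
      rw [hall x hxB, Finset.card_image_of_injective _ (mul_left_injective s), ← Fintype.card_subtype,
        ← Nat.card_eq_fintype_card]
      exact hxb.le)
    intro k hk
    rw [heq]
    exact Finset.mem_image.2 ⟨k, by simpa using hk, rfl⟩
  have hinv : ∀ k ∈ L, s * k * s⁻¹ = k⁻¹ := fun k hk => by
    have h1 := mul_self_eq_one (mem_invs.1 (hcoset k hk)).1
    rw [inv_eq_self hso]
    refine eq_inv_of_mul_eq_one_right ?_
    rw [← mul_assoc, ← mul_assoc]
    rw [← mul_assoc] at h1
    exact h1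
  have hcomm : ∀ k ∈ L, ∀ l ∈ L, Commute k l := fun k hk l hl => by
    have h1 := hinv _ (L.mul_mem hk hl)
    rw [show s * (k * l) * s⁻¹ = (s * k * s⁻¹) * (s * l * s⁻¹) by group, hinv k hk, hinv l hl,
      ← mul_inv_rev, inv_inj] at h1
    exact h1.symm
  -- `t` is the only involution of `L`
  have huniq : ∀ k ∈ L, orderOf k = 2 → k = t := by
    intro k hk hko
    by_contra hne
    have hsub : insert k (insert t (invs x)) ⊆ (involsF X).filter fun r => Commute r t := by
      intro r hr
      simp only [Finset.mem_insert] at hr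
      refine Finset.mem_filter.2 ?_
      rcases hr with rfl | rfl | hr
      · exact ⟨mem_involsF.2 hko, (H27.mem_cent_comm.1 (hle hk)).symm⟩
      · exact ⟨mem_involsF.2 ht, Commute.refl _⟩
      · refine ⟨mem_involsF.2 (mem_invs.1 hr).1, ?_⟩
        have h1 : r⁻¹ * s ∈ L := H27.mem_cent.2 (by
          calc r⁻¹ * s * x = r⁻¹ * (s * x * s⁻¹) * s := by group
            _ = r⁻¹ * (r * x * r⁻¹) * s := by
              rw [conj_eq_inv_of_mem_invs hs, conj_eq_inv_of_mem_invs hr]
            _ = x * (r⁻¹ * s) := by group)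
        have h2 := mul_mem hts (inv_mem (hle h1))
        rw [show s * (r⁻¹ * s)⁻¹ = r by group] at h2
        exact (H27.mem_cent_comm.1 h2).symm
    have hnot : ∀ r ∈ invs x, r ∉ L := fun r hr => (H.inverted hxB hx2 hr).2.1
    have h1 := Finset.card_le_card hsub
    rw [Finset.card_insert_of_notMem (by
        simp only [Finset.mem_insert, not_or]
        exact ⟨hne, fun h => hnot k h hk⟩),
      Finset.card_insert_of_notMem (fun h => hnot t h htL), hall x hxB,
      show ((involsF X).filter fun r => Commute r t).card = mI t by simp [mI], hmt] at h1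
    omega
  refine ⟨t, s, L, ht, hso, ⟨⟨fun k l => Subtype.ext (hcomm _ k.2 _ l.2)⟩⟩, hle, htL, hts, hsL,
    ?_, ?_, hinv, ?_⟩
  · refine le_antisymm (sup_le hle (zpowers_le.2 hts)) fun g hg => ?_
    rcases hsplit g hg with h | h
    · exact mem_sup_left h
    · have h2 := mul_mem (mem_sup_left h (T := zpowers s))
        (inv_mem (mem_sup_right (mem_zpowers s) : s ∈ L ⊔ zpowers s))
      rwa [mul_inv_cancel_right] at h2
  · refine le_antisymm ?_ (zpowers_le.2 ⟨htL, H27.mem_cent.2 (H27.mem_cent.1 hts).symm⟩)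
    rintro k ⟨hk, hks⟩
    have hkc : k⁻¹ = k := by
      rw [← hinv k hk, (H27.mem_cent_comm.1 hks).eq, mul_inv_cancel_right]
    by_cases hk1 : k = 1
    · rw [hk1]; exact one_mem _
    rw [huniq k hk (orderOf_eq_prime (by
      rw [pow_two]; conv_lhs => arg 1; rw [← hkc]
      exact inv_mul_cancel k) hk1)]
    exact mem_zpowers t
  · intro g hg
    rw [eq_bot_iff]
    rintro _ ⟨hcL, ⟨k, hk, rfl⟩⟩
    simp only [MulEquiv.toMonoidHom_eq_coe, MonoidHom.coe_coe, MulAut.conj_apply] at hcL ⊢
    rw [mem_bot]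
    by_contra hne
    have hk1 : k ≠ 1 := fun h => hne (by rw [h]; group)
    apply hg
    have hgt : g * t * g⁻¹ = t := by
      by_cases hk2 : orderOf k = 2
      · obtain rfl := huniq k hk hk2
        exact huniq _ hcL ((orderOf_conj_eq g k).trans hk2)
      · set c := g * k * g⁻¹ with hc
        have hLc : L ≤ centralizer ({c} : Set X) := fun l hl =>
          H27.mem_cent_comm.2 (hcomm c hcL l hl)
        have hbc : b ∣ cc c := hxb ▸ card_dvd_of_le hLc
        have hcB : c ∈ bSet X b := by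
          refine mem_bSet.2 ⟨hne, ?_⟩
          have hb1 : b ≠ 1 := by have := H.hb; omega
          rcases H.cent c hne with h | h | h | h
          · exact absurd (Nat.eq_one_of_dvd_coprimes H.cop_bq dvd_rfl (h ▸ hbc)) hb1
          · exact absurd (Nat.eq_one_of_dvd_coprimes H.cop_ab.symm dvd_rfl (h ▸ hbc)) hb1
          · exact Or.inl h
          · exact Or.inr h
        have h1 := hm1 c hcB (fun h => hk2 ((orderOf_conj_eq g k).symm.trans h))
        have hmem1 : t ∈ (involsF X).filter fun r => Commute r c :=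
          Finset.mem_filter.2 ⟨mem_involsF.2 ht, (H27.mem_cent_comm.1 (hle hcL))⟩
        have hmem2 : g * t * g⁻¹ ∈ (involsF X).filter fun r => Commute r c :=
          Finset.mem_filter.2 ⟨mem_involsF.2 ((orderOf_conj_eq g t).trans ht),
            (H27.mem_cent_comm.1 (hle hk)).map (MulAut.conj g).toMonoidHom⟩
        refine Finset.card_le_one.1 ?_ _ hmem2 _ hmem1
        rw [show ((involsF X).filter fun r => Commute r c).card = mI c by simp [mI], h1]
    exact H27.mem_cent.2 (mul_inv_eq_iff_eq_mul.1 hgt)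

theorem main {F : Type*} [Field F] [Fintype F] (hF : Fintype.card F = q) :
    Nonempty (X ≃* Matrix.ProjectiveSpecialLinearGroup (Fin 2) F) ∧ LocallyHalfAbelian X := by
  classical
  obtain ⟨t, s, K, ht, hs, hKc, hKt, htK, hst, hsK, hH, hCK, hinv, hTI⟩ := H.exists_wall
  obtain ⟨Q, D, hord, hQ, hDc, hd, hQD, hN, hX⟩ := Cfsg.Agent.S3282.result t ht K hKc hKt htK s hs
    hst hsK hH hCK hinv hTI (fun x y hx hy => (H.invol_conj hx hy).1)
  have hQq : Nat.card Q = q := by
    set q' := Nat.card Q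
    have hq' : 0 < q' := Nat.card_pos
    obtain ⟨r, hr⟩ : ∃ r, q' = r + 1 := ⟨q' - 1, by omega⟩
    rw [hr, Nat.add_sub_cancel, H.card] at hord
    have h4 := H.four_ab
    obtain ⟨r₂, hr₂⟩ : ∃ r₂, q = r₂ + 1 := ⟨q - 1, by have := H.qpos; omega⟩
    rw [hr₂] at h4 hord ⊢
    rw [hr]
    congr 1
    have h5 : (r + 1) * (r + 1 + 1) * r = (r₂ + 1) * (r₂ + 1 + 1) * r₂ := by
      rw [← hord, show 2 * (2 * a * b * (r₂ + 1)) = (r₂ + 1) * (4 * a * b) by ring,
        show 4 * a * b = (r₂ + 1 + 1) * r₂ by linarith, mul_assoc]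
    rcases lt_trichotomy r r₂ with h | h | h
    · exact absurd h5 (ne_of_lt (Nat.mul_lt_mul_of_le_of_lt (Nat.mul_le_mul (by omega) (by omega)) h
        (by positivity)))
    · exact h
    · exact absurd h5.symm (ne_of_lt (Nat.mul_lt_mul_of_le_of_lt (Nat.mul_le_mul (by omega) (by omega)) h
        (by positivity)))
  have hq7 : 7 ≤ q := by have := H.ha; have := H.hb; have := H.sum; omega
  have hd1 : Nat.card D ≠ 1 := by omega
  have hreg : ∀ N : Subgroup X, N.Normal → Nat.card N ≠ Nat.card Q + 1 := by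
    intro N hNn hN'
    rw [hQq] at hN'
    haveI : Fact (Nat.Prime 2) := ⟨Nat.prime_two⟩
    obtain ⟨k, hk⟩ := H.qodd
    obtain ⟨⟨v, hv⟩, hvo⟩ := exists_prime_orderOf_dvd_card' (G := N) 2 (by rw [hN']; omega)
    rw [orderOf_mk] at hvo
    have hsub : involsF X ⊆ Finset.univ.filter (fun g => g ∈ N) := fun w hw => by
      obtain ⟨g, rfl⟩ := isConj_iff.1 (H.invol_conj hvo (mem_involsF.1 hw)).1
      simp [hNn.conj_mem v hv g]
    have h1 := Finset.card_le_card hsub
    rw [H.card_I, ← Fintype.card_subtype, ← Nat.card_eq_fintype_card,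
      show Nat.card {g // g ∈ N} = q + 1 from hN'] at h1
    have : q * 3 ≤ q * a := Nat.mul_le_mul_left q H.ha
    omega
  constructor
  · obtain ⟨F', i1, i2, hF', ⟨e⟩⟩ := psl_of_bsw_pair Q D hord hQ hDc hd hQD hN hX hd1 hreg
    exact ⟨e.trans (H39.pslCongr (FiniteField.ringEquivOfCardEq (hF'.trans (hQq.trans hF.symm))))⟩
  · intro r hr
    by_cases hra : r ∣ a
    · exact local_of_torus H.torusHyp hr hra
    by_cases hrq : r ∣ q
    · refine exists_local_of_abelian Q (fun y hy z hz => ?_) ?_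
      · by_cases hy1 : y = 1
        · rw [hy1]; exact Commute.one_left z
        · exact H27.mem_cent_comm.1 ((hQ y hy hy1).symm ▸ hz)
      · have hi : Q.index = 2 * a * b := by
          have h1 := Q.card_mul_index
          rw [hQq, H.card] at h1
          exact Nat.eq_of_mul_eq_mul_left H.qpos (h1.trans (by ring))
        rw [hi]
        intro h
        exact hr.ne_one (Nat.eq_one_of_dvd_coprimes
          (Nat.Coprime.mul_right (Nat.Coprime.mul_right H.cop_q2 H.cop_aq.symm) H.cop_bq.symm) hrq h)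
    refine ⟨K, s, fun y hy z hz => congrArg Subtype.val (hKc.is_comm.comm ⟨y, hy⟩ ⟨z, hz⟩),
      fun y hy => (hinv y hy).symm ▸ K.inv_mem hy, ?_⟩
    rw [hH, index_of_cc (m := q * a) (by have := H.hb; omega) (by rw [H.card]; ring)
      (H.invol_conj ht ht).2]
    intro h
    rcases hr.dvd_mul.1 h with h | h
    exacts [hrq h, hra h]

end OddHyp

end H10.ClassSize
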