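import Cfsg.Agent.H10.ClassSize.MainEven
import Cfsg.Agent.H10.ClassSize.OddMain
import Cfsg.Agent.S2508

/-!
Groups with the class sizes of `PSL₂(q)`, `q` odd.
-/

set_option autoImplicit false
set_option linter.unusedSectionVars false
set_option linter.style.haveILetI false

namespace H10.ClassSize

open Subgroup

theorem odd_params {p q f : ℕ} (hp : p.Prime) (hqf : q = p ^ f) (hodd : ¬ 2 ∣ q) (h7 : 7 ≤ q) :
    ∃ a b, Params p q 2 a b ∧ 3 ≤ a ∧ Odd a ∧ 4 ≤ b ∧ Even b ∧ a + b = q ∧ (a = b + 1 ∨ b = a + 1) ∧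
      ((q % 4 = 1 → a = (q + 1) / 2 ∧ b = (q - 1) / 2) ∧
        (q % 4 = 3 → a = (q - 1) / 2 ∧ b = (q + 1) / 2)) := by
  have hp2 : p ≠ 2 := by
    rintro rfl
    apply hodd
    rw [hqf]
    refine dvd_pow_self 2 fun h => ?_
    rw [hqf, h, pow_zero] at h7
    omega
  have key : ∀ a b : ℕ, 3 ≤ a → Odd a → 4 ≤ b → Even b → a + b = q → (a = b + 1 ∨ b = a + 1) →
      Params p q 2 a b := by
    intro a b ha hao hb hbe hab hnear
    have hc : a.Coprime b := by rcases hnear with h | h <;> rw [h] <;> simp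
    refine ⟨hp, ⟨f, hqf⟩, by omega, ha, by omega, hao, hc, ?_, ?_, Or.inr ⟨rfl, hbe, hp2⟩⟩
    · rw [← hab, Nat.coprime_self_add_right]; exact hc
    · rw [← hab, Nat.coprime_add_self_right]; exact hc.symm
  rcases (show q % 4 = 1 ∨ q % 4 = 3 by omega) with h | h
  · refine ⟨(q + 1) / 2, (q - 1) / 2, key _ _ ?_ ?_ ?_ ?_ ?_ ?_, ?_, ?_, ?_, ?_, ?_, ?_, ?_, ?_⟩
    all_goals first
      | (intro h'; omega)
      | (rw [Nat.odd_iff]; omega)
      | (rw [Nat.even_iff]; omega)
      | omega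
  · refine ⟨(q - 1) / 2, (q + 1) / 2, key _ _ ?_ ?_ ?_ ?_ ?_ ?_, ?_, ?_, ?_, ?_, ?_, ?_, ?_, ?_⟩
    all_goals first
      | (intro h'; omega)
      | (rw [Nat.odd_iff]; omega)
      | (rw [Nat.even_iff]; omega)
      | omega

theorem odd_structure {F : Type*} [Field F] [Fintype F] (hodd : ¬ 2 ∣ Fintype.card F)
    (h7 : 7 ≤ Fintype.card F) {G : Type*} [Group G] [Finite G]
    (h : Set.range (fun g : G => (centralizer ({g} : Set G)).index) =
      Set.range (fun g : Matrix.ProjectiveSpecialLinearGroup (Fin 2) F =>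
        (centralizer ({g} : Set (Matrix.ProjectiveSpecialLinearGroup (Fin 2) F))).index)) :
    Nonempty (G ⧸ center G ≃* Matrix.ProjectiveSpecialLinearGroup (Fin 2) F) ∧
      LocallyHalfAbelian (G ⧸ center G) ∧
      ∀ x y : G, Commute (x : G ⧸ center G) (y : G ⧸ center G) → Commute x y := by
  classical
  obtain ⟨p, hp⟩ := CharP.exists F
  obtain ⟨f, hpp, hf⟩ := FiniteField.card F p
  have h2508 := Cfsg.Agent.S2508.result (F := F) hodd h7
  set q := Fintype.card F with hq
  obtain ⟨a, b, P, ha, hao, hb, hbe, hab, hnear, h1, h3⟩ := odd_params hpp hf hodd h7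
  have hsz : Set.range (cs (G := G)) = {1, 2 * a * b, 2 * q * b, 2 * q * a, q * a} := by
    have hsq : q ^ 2 - 1 = (q + 1) * (q - 1) := by rw [← Nat.sq_sub_sq, one_pow]
    obtain ⟨r, hr⟩ : ∃ r, q = r + 1 := ⟨q - 1, by omega⟩
    rcases (show q % 4 = 1 ∨ q % 4 = 3 by omega) with h4 | h4
    · obtain ⟨ha', hb'⟩ := h1 h4
      refine h.trans ((h2508.1 h4).trans ?_)
      have e1 : q + 1 = 2 * a := by omega
      have e2 : q - 1 = 2 * b := by omega
      rw [hsq, e1, e2, show 2 * a * (2 * b) / 2 = 2 * a * b by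
          rw [show 2 * a * (2 * b) = 2 * a * b * 2 by ring, Nat.mul_div_cancel _ two_pos],
        show q * (2 * a) / 2 = q * a by
          rw [show q * (2 * a) = q * a * 2 by ring, Nat.mul_div_cancel _ two_pos]]
      ext m
      simp only [Set.mem_insert_iff, Set.mem_singleton_iff,
        show q * (2 * b) = 2 * q * b by ring, show q * (2 * a) = 2 * q * a by ring]
      tauto
    · obtain ⟨ha', hb'⟩ := h3 h4
      refine h.trans ((h2508.2 h4).trans ?_)
      have e1 : q + 1 = 2 * b := by omega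
      have e2 : q - 1 = 2 * a := by omega
      rw [hsq, e1, e2, show 2 * b * (2 * a) / 2 = 2 * a * b by
          rw [show 2 * b * (2 * a) = 2 * a * b * 2 by ring, Nat.mul_div_cancel _ two_pos],
        show q * (2 * a) / 2 = q * a by
          rw [show q * (2 * a) = q * a * 2 by ring, Nat.mul_div_cancel _ two_pos]]
      ext m
      simp only [Set.mem_insert_iff, Set.mem_singleton_iff,
        show q * (2 * b) = 2 * q * b by ring, show q * (2 * a) = 2 * q * a by ring]
      tauto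
  have S : Sizes G p q 2 a b := ⟨P, hsz⟩
  haveI := Fintype.ofFinite (G ⧸ center G)
  have H : OddHyp (G ⧸ center G) q a b :=
    ⟨S.card_quot, ha, hao, hb, hbe, hab, hnear, ⟨p, f, hpp, hf⟩, fun x hx => S.cent_quot x hx⟩
  obtain ⟨he, hloc⟩ := H.main (F := F) hq.symm
  exact ⟨he, hloc, fun x y hxy =>
    S.commute_of_quot (fun x y hx hy hx' hy' _ => H.conj_of_cc hx hy hx' hy') hxy⟩

end H10.ClassSize
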