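import Cfsg.Agent.H10.ClassSize.OddStruct

/-!
All the bounds on the numbers of inverting involutions are attained.
-/

set_option autoImplicit false
set_option linter.unusedSectionVars false
set_option linter.style.haveILetI false

namespace H10.ClassSize

open Subgroup

variable {X : Type*} [Group X] [Fintype X] [DecidableEq X]

namespace OddHyp

variable {q a b : ℕ} (H : OddHyp X q a b)

include H

theorem cc_eq_q {w : X} (hw : w ≠ 1) (h : q ∣ cc w) : cc w = q := by
  have hq : q ≠ 1 := by have := H.ha; have := H.sum; omega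
  rcases H.cent w hw with e | e | e | e
  · exact e
  all_goals exfalso; rw [e] at h
  exacts [hq (Nat.eq_one_of_dvd_coprimes H.cop_aq h dvd_rfl),
    hq (Nat.eq_one_of_dvd_coprimes H.cop_bq h dvd_rfl),
    hq (Nat.eq_one_of_dvd_coprimes H.cop_q2b.symm h dvd_rfl)]

theorem invs_P_eq_empty (hb : b = a + 1) {v : X} (hv : v ∈ ofCent X q) : invs v = ∅ := by
  classical
  rw [Finset.eq_empty_iff_forall_notMem]
  intro t ht
  obtain ⟨hv1, hvq⟩ := mem_ofCent.1 hv
  obtain ⟨p, f, hp, hqf⟩ := H.pow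
  haveI : Fact p.Prime := ⟨hp⟩
  have hto := (mem_invs.1 ht).1
  have htv := conj_eq_inv_of_mem_invs ht
  set P := centralizer ({v} : Set X) with hP
  have hPq : Nat.card P = q := hvq
  have hnorm : ∀ y ∈ P, t * y * t⁻¹ ∈ P := fun y hy => by
    have h2 : Commute v⁻¹ y := (H27.mem_cent_comm.1 hy).inv_left
    have h3 := h2.map (MulAut.conj t).toMonoidHom
    simp only [MulEquiv.toMonoidHom_eq_coe, MonoidHom.coe_coe, MulAut.conj_apply] at h3
    rw [show t * v⁻¹ * t⁻¹ = (t * v * t⁻¹)⁻¹ by group, htv, inv_inv] at h3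
    exact H27.mem_cent_comm.2 h3
  have hfix : ∀ y ∈ P, t * y * t⁻¹ = y → y = 1 := fun y hy hyt => by
    have hy' : y ∈ centralizer ({t} : Set X) := H27.mem_cent.2 (mul_inv_eq_iff_eq_mul.1 hyt).symm
    have h1 : orderOf y ∣ q := by rw [← hPq, ← orderOf_mk y hy]; exact orderOf_dvd_natCard _
    have h2 : orderOf y ∣ 2 * b := by
      rw [← (H.invol_conj hto hto).2, ← orderOf_mk y hy']; exact orderOf_dvd_natCard _
    exact orderOf_eq_one_iff.1 (Nat.eq_one_of_dvd_coprimes H.cop_q2b h1 h2)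
  let φ : P → P := fun y =>
    ⟨(y : X)⁻¹ * (t * y * t⁻¹), P.mul_mem (P.inv_mem y.2) (hnorm y y.2)⟩
  have hinj : Function.Injective φ := by
    intro y z h
    have h' : (y : X)⁻¹ * (t * y * t⁻¹) = (z : X)⁻¹ * (t * z * t⁻¹) := congrArg Subtype.val h
    have h1 := hfix ((z : X) * (y : X)⁻¹) (P.mul_mem z.2 (P.inv_mem y.2)) (by
      calc t * ((z : X) * (y : X)⁻¹) * t⁻¹
          = (z : X) * ((z : X)⁻¹ * (t * z * t⁻¹)) * (t * (y : X) * t⁻¹)⁻¹ := by group
        _ = (z : X) * ((y : X)⁻¹ * (t * y * t⁻¹)) * (t * (y : X) * t⁻¹)⁻¹ := by rw [h']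
        _ = (z : X) * (y : X)⁻¹ := by group)
    exact Subtype.ext (mul_inv_eq_one.1 h1).symm
  have hinv : ∀ y ∈ P, t * y * t⁻¹ = y⁻¹ := by
    intro y hy
    obtain ⟨z, hz⟩ := (Finite.injective_iff_surjective.1 hinj) ⟨y, hy⟩
    have hz' : (z : X)⁻¹ * (t * z * t⁻¹) = y := congrArg Subtype.val hz
    rw [← hz', inv_eq_self hto, mul_inv_rev, inv_inv, mul_inv_rev, mul_inv_rev, inv_eq_self hto]
    calc t * ((z : X)⁻¹ * (t * z * t)) * t = t * (z : X)⁻¹ * t * z * (t * t) := by group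
      _ = t * ((z : X)⁻¹ * t) * z := by rw [mul_self_eq_one hto, mul_one, mul_assoc t]
  have hcomm : ∀ y ∈ P, ∀ z ∈ P, Commute y z := fun y hy z hz => by
    have h1 := hinv _ (P.mul_mem hy hz)
    rw [show t * (y * z) * t⁻¹ = (t * y * t⁻¹) * (t * z * t⁻¹) by group, hinv y hy, hinv z hz,
      ← mul_inv_rev, inv_inj] at h1
    exact h1.symm
  have hPP : ∀ w ∈ P, w ≠ 1 → centralizer ({w} : Set X) = P := fun w hw hw1 => by
    have hle : P ≤ centralizer ({w} : Set X) := fun y hy => H27.mem_cent_comm.2 (hcomm w hw y hy)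
    refine (eq_of_le_of_card_ge hle ?_).symm
    rw [hPq]
    exact (H.cc_eq_q hw1 (hPq ▸ card_dvd_of_le hle)).le
  have hPi : ∀ w ∈ ofCent X q, ¬ p ∣ (centralizer ({w} : Set X)).index := fun w hw => by
    rw [index_of_cc H.qpos (m := 2 * a * b) (by rw [H.card]; ring) (mem_ofCent.1 hw).2]
    intro hd
    have hpq : p ∣ q := by
      rw [hqf]
      refine dvd_pow_self p fun h0 => ?_
      rw [h0, pow_zero] at hqf
      have := H.ha; have := H.sum; omega
    have hc : q.Coprime (2 * a * b) :=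
      Nat.Coprime.mul_right (Nat.Coprime.mul_right H.cop_q2 H.cop_aq.symm) H.cop_bq.symm
    exact hp.ne_one (Nat.eq_one_of_dvd_coprimes hc hpq hd)
  have hsyl : ∀ w ∈ ofCent X q,
      ∃ R : Sylow p X, (R : Subgroup X) = centralizer ({w} : Set X) := fun w hw => by
    obtain ⟨R, hR⟩ := H27.exists_sylow_le_of_not_dvd_index (hPi w hw)
    exact ⟨R, (R.is_maximal' (IsPGroup.of_card ((mem_ofCent.1 hw).2.trans hqf)) hR).symm⟩
  have hconj : ∀ x ∈ ofCent X q, ∃ g : X, g⁻¹ * x * g ∈ P := fun x hx => by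
    obtain ⟨R, hR⟩ := hsyl v hv
    obtain ⟨R', hR'⟩ := hsyl x hx
    obtain ⟨g, hg⟩ := MulAction.exists_smul_eq X R R'
    refine ⟨g, ?_⟩
    have hxR : x ∈ (R' : Subgroup X) := hR' ▸ H27.mem_cent.2 rfl
    rw [← hg, Sylow.coe_subgroup_smul] at hxR
    obtain ⟨y, hy, rfl⟩ := hxR
    rw [hP, ← hR]
    show g⁻¹ * (g * y * g⁻¹) * g ∈ (R : Subgroup X)
    rw [show g⁻¹ * (g * y * g⁻¹) * g = y by group]
    exact hy
  have hcount := card_ofCent_eq hPq hPP hconj
  rw [H.card_P] at hcount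
  set N := normalizer (P : Set X) with hN
  have hNi : N.index = q + 1 := by
    refine Nat.eq_of_mul_eq_mul_right (show 0 < q - 1 by have := H.ha; have := H.sum; omega)
      (hcount.trans ?_)
    obtain ⟨r, hr⟩ : ∃ r, q = r + 1 := ⟨q - 1, by have := H.qpos; omega⟩
    have h4 := H.four_ab
    rw [hr] at h4 ⊢
    rw [Nat.add_sub_cancel]
    linarith
  have htN : t ∈ N := mem_normalizer_iff.2 fun y => ⟨hnorm y, fun hy => by
    have h1 := hnorm _ hy
    rwa [show t * (t * y * t⁻¹) * t⁻¹ = (t * t) * y * (t * t)⁻¹ by group, mul_self_eq_one hto,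
      one_mul, inv_one, mul_one] at h1⟩
  have hev : 2 ∣ Nat.card N := by
    rw [← hto, ← orderOf_mk t htN]; exact orderOf_dvd_natCard _
  have hNc := N.card_mul_index
  rw [hNi, H.card] at hNc
  have hNa : Nat.card N = q * a := by
    refine Nat.eq_of_mul_eq_mul_right (show 0 < q + 1 by omega) (hNc.trans ?_)
    rw [← H.sum, hb]; ring
  rw [hNa] at hev
  exact Nat.not_even_iff_odd.2 (H.qodd.mul H.hao) (even_iff_two_dvd.2 hev)

theorem sum_P_le : ∑ x ∈ ofCent X q, (invs x).card + q * a * (b * (a - 1)) + q * a * (b * (b - 1)) + q * a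
    ≤ q * a * (q * a) := by
  have hs := H.sum
  rcases H.near with h | h
  · have h1 : ∑ x ∈ ofCent X q, (invs x).card ≤ 4 * a * b * q := by
      refine (Finset.sum_le_card_nsmul _ _ q fun x hx => ?_).trans (by rw [smul_eq_mul, H.card_P])
      exact (card_invs_le x).trans (mem_ofCent.1 hx).2.le
    obtain ⟨b', rfl⟩ : ∃ b', b = b' + 1 := ⟨b - 1, by have := H.hb; omega⟩
    subst hs h
    simp only [Nat.add_sub_cancel]
    nlinarith
  · have h1 : ∑ x ∈ ofCent X q, (invs x).card = 0 :=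
      Finset.sum_eq_zero fun x hx => by rw [H.invs_P_eq_empty h hx, Finset.card_empty]
    obtain ⟨a', rfl⟩ : ∃ a', a = a' + 1 := ⟨a - 1, by have := H.ha; omega⟩
    subst hs h
    simp only [Nat.add_sub_cancel]
    nlinarith

theorem exact_counts {t : X} (ht : orderOf t = 2) :
    mI t = b + 1 ∧ ∀ x ∈ bSet X b, (invs x).card = b := by
  classical
  have hsum := sum_invs (X := X)
  rw [← Finset.add_sum_erase _ _ (Finset.mem_univ (1 : X)), invs_one, H.sum_erase_one,
    Finset.sum_const_nat (s := ofCent X a) (m := a) (fun x hx => H.torusHyp.card_invs hx),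
    H.card_A, H.card_I] at hsum
  have h1 := H.sum_P_le
  have h2 : q * a * (b * (b - 1)) ≤ ∑ x ∈ bSet X b, (invs x).card := by
    rw [show (a - 1) * b * q * a = q * a * (b * (a - 1)) by ring] at hsum
    omega
  have hle : ∀ x ∈ bSet X b, (invs x).card ≤ b := fun x hx => by
    have h3 := H.invs_B_le hx ht
    have h4 := H.mI_le ht
    omega
  have hall : ∀ x ∈ bSet X b, (invs x).card = b := by
    intro x hx
    by_contra hne
    have h3 : ∑ y ∈ bSet X b, (invs y).card < ∑ _y ∈ bSet X b, b :=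
      Finset.sum_lt_sum hle ⟨x, hx, lt_of_le_of_ne (hle x hx) hne⟩
    rw [Finset.sum_const, smul_eq_mul, H.card_B,
      show q * a * (b - 1) * b = q * a * (b * (b - 1)) by ring] at h3
    omega
  refine ⟨?_, hall⟩
  have htB := H.invol_bSet ht
  have h3 := H.invs_B_le htB ht
  rw [hall t htB] at h3
  have h4 := H.mI_le ht
  have := H.hb
  omega

end OddHyp

end H10.ClassSize
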