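import Cfsg.Agent.H10.ClassSize.Even

/-!
Counting inverting involutions in a group of order `q(q² - 1)/2` with centralizer orders
`q`, `a`, `b`, `2b`.
-/

set_option autoImplicit false
set_option linter.unusedSectionVars false
set_option linter.style.haveILetI false

namespace H10.ClassSize

open Subgroup

/-- the hypotheses in odd characteristic -/
structure OddHyp (X : Type*) [Group X] (q a b : ℕ) : Prop where
  card : Nat.card X = 2 * a * b * q
  ha : 3 ≤ a
  hao : Odd a
  hb : 4 ≤ b
  hbe : Even b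
  sum : a + b = q
  near : a = b + 1 ∨ b = a + 1
  pow : ∃ p f, Nat.Prime p ∧ q = p ^ f
  cent : ∀ x : X, x ≠ 1 → cc x = q ∨ cc x = a ∨ cc x = b ∨ cc x = 2 * b

variable {X : Type*} [Group X] [Fintype X] [DecidableEq X]

/-- the involutions -/
noncomputable def involsF (X : Type*) [Group X] [Fintype X] [DecidableEq X] : Finset X :=
  Finset.univ.filter fun x => orderOf x = 2

/-- the elements with centralizer order `b` or `2 * b` -/
noncomputable def bSet (X : Type*) [Group X] [Fintype X] [DecidableEq X] (b : ℕ) : Finset X :=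
  Finset.univ.filter fun x => x ≠ 1 ∧ (cc x = b ∨ cc x = 2 * b)

/-- the number of involutions commuting with `x` -/
noncomputable def mI (x : X) : ℕ := by
  classical
  exact ((involsF X).filter fun s => Commute s x).card

theorem mem_involsF {x : X} : x ∈ involsF X ↔ orderOf x = 2 := by simp [involsF]

theorem mem_bSet {b : ℕ} {x : X} : x ∈ bSet X b ↔ x ≠ 1 ∧ (cc x = b ∨ cc x = 2 * b) := by
  simp [bSet]

theorem ne_one_of_invol {x : X} (h : orderOf x = 2) : x ≠ 1 := fun h' => by
  rw [h', orderOf_one] at h; omega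

theorem orderOf_conj_eq (g x : X) : orderOf (g * x * g⁻¹) = orderOf x :=
  orderOf_injective (MulAut.conj g).toMonoidHom (MulAut.conj g).injective x

theorem sum_invs : (∑ x : X, (invs x).card) = (involsF X).card * (involsF X).card := by
  classical
  have h1 : ∀ x : X, (invs x).card = ∑ s ∈ involsF X, if s * x ∈ involsF X then 1 else 0 := fun x => by
    rw [← Finset.card_filter]
    congr 1
    ext s
    simp [mem_invs, mem_involsF]
  rw [Finset.sum_congr rfl (fun x _ => h1 x), Finset.sum_comm, Finset.sum_const_nat (m := (involsF X).card)]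
  intro s _
  rw [← Finset.card_filter,
    ← Finset.card_image_of_injective (involsF X) (mul_right_injective s⁻¹)]
  congr 1
  ext x
  simp only [Finset.mem_filter, Finset.mem_univ, true_and, Finset.mem_image]
  exact ⟨fun h => ⟨_, h, by group⟩, by rintro ⟨y, hy, rfl⟩; simpa using hy⟩

theorem invs_one : invs (1 : X) = involsF X := by
  ext s
  simp [mem_invs, mem_involsF]

theorem card_invs_le (x : X) : (invs x).card ≤ cc x := by
  classical
  rcases (invs x).eq_empty_or_nonempty with h | ⟨s, hs⟩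
  · simp [h]
  · rw [show cc x = (Finset.univ.filter (fun y => y ∈ centralizer ({x} : Set X))).card by
      rw [← Fintype.card_subtype, ← Nat.card_eq_fintype_card]]
    refine Finset.card_le_card_of_injOn (fun t => s⁻¹ * t) (fun t ht => ?_)
      ((mul_right_injective s⁻¹).injOn)
    simp only [Finset.coe_filter, Finset.mem_univ, true_and, Set.mem_setOf_eq]
    refine H27.mem_cent.2 ?_
    calc s⁻¹ * t * x = s⁻¹ * (t * x * t⁻¹) * t := by group
      _ = s⁻¹ * (s * x * s⁻¹) * t := by
        rw [conj_eq_inv_of_mem_invs ht, conj_eq_inv_of_mem_invs hs]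
      _ = x * (s⁻¹ * t) := by group

theorem invs_subset_of_invol {x : X} (hx : orderOf x = 2) [DecidablePred fun s => Commute s x] :
    invs x ⊆ ((involsF X).filter fun s => Commute s x).erase x := by
  intro s hs
  have h := conj_eq_inv_of_mem_invs hs
  rw [inv_eq_self hx, mul_inv_eq_iff_eq_mul] at h
  obtain ⟨hs1, hs2⟩ := mem_invs.1 hs
  refine Finset.mem_erase.2 ⟨?_, Finset.mem_filter.2 ⟨mem_involsF.2 hs1, h⟩⟩
  rintro rfl
  exact ne_one_of_invol hs2 (mul_self_eq_one hx)

theorem mI_conj (g x : X) : mI (g * x * g⁻¹) = mI x := by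
  classical
  unfold mI
  rw [← Finset.card_image_of_injective ((involsF X).filter fun s => Commute s x)
    (MulAut.conj g).injective]
  congr 1
  ext s
  simp only [Finset.mem_filter, Finset.mem_image, mem_involsF, MulAut.conj_apply]
  constructor
  · rintro ⟨hs, hc⟩
    refine ⟨g⁻¹ * s * g, ⟨?_, ?_⟩, by group⟩
    · rw [← orderOf_conj_eq g]; simpa [mul_assoc] using hs
    · show g⁻¹ * s * g * x = x * (g⁻¹ * s * g)
      calc g⁻¹ * s * g * x = g⁻¹ * (s * (g * x * g⁻¹)) * g := by group
        _ = g⁻¹ * ((g * x * g⁻¹) * s) * g := by rw [hc.eq]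
        _ = x * (g⁻¹ * s * g) := by group
  · rintro ⟨t, ⟨ht, hc⟩, rfl⟩
    exact ⟨(orderOf_conj_eq g t).trans ht, (hc.map (MulAut.conj g).toMonoidHom)⟩

theorem sum_mI : (∑ x : X, mI x) = ∑ s ∈ involsF X, cc s := by
  classical
  unfold mI
  rw [Finset.sum_congr rfl (fun x _ => Finset.card_filter _ _), Finset.sum_comm]
  refine Finset.sum_congr rfl fun s _ => ?_
  rw [← Finset.card_filter, ← Fintype.card_subtype, ← Nat.card_eq_fintype_card]
  exact Nat.card_congr (Equiv.subtypeEquivRight fun y => H27.mem_cent_comm.symm)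

theorem mI_one : mI (1 : X) = (involsF X).card := by
  classical
  unfold mI
  rw [Finset.filter_true_of_mem fun s _ => Commute.one_right s]

namespace OddHyp

variable {q a b : ℕ} (H : OddHyp X q a b)

include H

theorem qodd : Odd q := H.sum ▸ H.hao.add_even H.hbe

theorem four_ab : 4 * a * b + 1 = q * q := by
  rw [← H.sum]
  rcases H.near with h | h <;> rw [h] <;> ring

theorem cop_ab : a.Coprime b := by
  rcases H.near with h | h <;> rw [h] <;> simp

theorem cop_aq : a.Coprime q := by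
  rw [← H.sum, Nat.coprime_self_add_right]; exact H.cop_ab

theorem cop_bq : b.Coprime q := by
  rw [← H.sum, Nat.coprime_add_self_right]; exact H.cop_ab.symm

theorem cop_q2 : q.Coprime 2 := Nat.coprime_two_right.2 H.qodd

theorem cop_q2b : q.Coprime (2 * b) := Nat.Coprime.mul_right H.cop_q2 H.cop_bq.symm

theorem cop_a2b : a.Coprime (2 * b) :=
  Nat.Coprime.mul_right (Nat.coprime_two_right.2 H.hao) H.cop_ab

theorem qpos : 0 < q := by have := H.ha; have := H.sum; omega

theorem apos : 0 < a := by have := H.ha; omega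

theorem bpos : 0 < b := by have := H.hb; omega

theorem torusHyp : TorusHyp X a (2 * b * q) := by
  refine ⟨by have := H.ha; omega, H.hao, by rw [H.card]; ring, ?_,
    Nat.Coprime.mul_right H.cop_a2b H.cop_aq, fun x hx => ?_⟩
  · rcases H.near with h | h
    · obtain ⟨b', rfl⟩ : ∃ b', b = b' + 4 := ⟨b - 4, by have := H.hb; omega⟩
      exact ⟨4 * b' + 14, by rw [← H.sum, h]; ring⟩
    · exact ⟨4 * a + 6, by rw [← H.sum, h]; ring⟩
  · rcases H.cent x hx with h | h | h | h <;> rw [h]
    exacts [Or.inr H.cop_aq.symm, Or.inl rfl, Or.inr H.cop_ab.symm, Or.inr H.cop_a2b.symm]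

theorem card_A : (ofCent X a).card = (a - 1) * b * q := by
  have h := H.torusHyp.count
  refine Nat.eq_of_mul_eq_mul_left (show 0 < 2 by norm_num) ?_
  rw [h]; ring

theorem card_P : (ofCent X q).card = 4 * a * b := by
  have hm : 0 < 2 * a * b := Nat.mul_pos (Nat.mul_pos (by norm_num) H.apos) H.bpos
  obtain ⟨k, hk, hd, hlt⟩ := count_class (X := X) (c := q) (m := 2 * a * b) H.qpos hm
    (by rw [H.card]; ring) (fun x hx => by
      rcases H.cent x hx with h | h | h | h <;> rw [h]
      exacts [Or.inl rfl, Or.inr H.cop_aq, Or.inr H.cop_bq, Or.inr H.cop_q2b.symm])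
  have h5 : 7 ≤ q := by have := H.ha; have := H.hb; have := H.sum; omega
  have hk2 : k = 2 := by
    rcases Nat.lt_or_ge k 2 with h | h
    · exfalso
      interval_cases k
      · simp only [zero_mul, add_zero] at hd
        have := Nat.le_of_dvd one_pos hd
        omega
      · have h2 : q ∣ 2 * (1 + 1 * (2 * a * b)) := hd.mul_left 2
        rw [show 2 * (1 + 1 * (2 * a * b)) = (4 * a * b + 1) + 1 by ring, H.four_ab] at h2
        have := Nat.le_of_dvd one_pos ((Nat.dvd_add_right (dvd_mul_right q q)).1 h2)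
        omega
    · obtain ⟨k', rfl⟩ : ∃ k', k = k' + 2 := ⟨k - 2, by omega⟩
      have h2 : q ∣ 2 * (1 + (k' + 2) * (2 * a * b)) + k' := by
        refine ⟨(k' + 2) * q, ?_⟩
        rw [show q * ((k' + 2) * q) = (k' + 2) * (q * q) by ring, ← H.four_ab]
        ring
      have := Nat.eq_zero_of_dvd_of_lt ((Nat.dvd_add_right (hd.mul_left 2)).1 h2) (by omega)
      omega
  rw [hk, hk2]; ring

theorem cases_set {x : X} (hx : x ≠ 1) :
    x ∈ ofCent X q ∨ x ∈ ofCent X a ∨ x ∈ bSet X b := by
  rcases H.cent x hx with h | h | h | h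
  exacts [Or.inl (mem_ofCent.2 ⟨hx, h⟩), Or.inr (Or.inl (mem_ofCent.2 ⟨hx, h⟩)),
    Or.inr (Or.inr (mem_bSet.2 ⟨hx, Or.inl h⟩)), Or.inr (Or.inr (mem_bSet.2 ⟨hx, Or.inr h⟩))]

theorem sum_erase_one (f : X → ℕ) :
    ∑ x ∈ Finset.univ.erase (1 : X), f x =
      ∑ x ∈ ofCent X q, f x + ∑ x ∈ ofCent X a, f x + ∑ x ∈ bSet X b, f x := by
  have hqa : q ≠ a := by have := H.hb; have := H.sum; omega
  have hqb : q ≠ b ∧ q ≠ 2 * b := by
    have := H.ha; have := H.sum
    refine ⟨by omega, fun h => ?_⟩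
    exact Nat.not_even_iff_odd.2 H.qodd ⟨b, by omega⟩
  have hab : a ≠ b ∧ a ≠ 2 * b := by
    refine ⟨fun h => Nat.not_even_iff_odd.2 H.hao (h ▸ H.hbe),
      fun h => Nat.not_even_iff_odd.2 H.hao ⟨b, by omega⟩⟩
  have hd1 : Disjoint (ofCent X q) (ofCent X a) := Finset.disjoint_left.2 fun x h1 h2 =>
    hqa ((mem_ofCent.1 h1).2.symm.trans (mem_ofCent.1 h2).2)
  have hd2 : Disjoint (ofCent X q ∪ ofCent X a) (bSet X b) := Finset.disjoint_left.2 fun x h1 h2 => by
    rcases Finset.mem_union.1 h1 with h1 | h1 <;> rcases (mem_bSet.1 h2).2 with h3 | h3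
    exacts [hqb.1 ((mem_ofCent.1 h1).2.symm.trans h3), hqb.2 ((mem_ofCent.1 h1).2.symm.trans h3),
      hab.1 ((mem_ofCent.1 h1).2.symm.trans h3), hab.2 ((mem_ofCent.1 h1).2.symm.trans h3)]
  rw [← Finset.sum_union hd1, ← Finset.sum_union hd2]
  refine Finset.sum_congr ?_ fun _ _ => rfl
  ext x
  simp only [Finset.mem_erase, Finset.mem_univ, and_true, Finset.mem_union]
  constructor
  · intro hx
    rcases H.cases_set hx with h | h | h <;> simp [h]
  · rintro ((h | h) | h)
    exacts [(mem_ofCent.1 h).1, (mem_ofCent.1 h).1, (mem_bSet.1 h).1]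

theorem card_B : (bSet X b).card = q * a * (b - 1) := by
  have h := H.sum_erase_one (fun _ => 1)
  simp only [Finset.sum_const, smul_eq_mul, mul_one, Finset.card_erase_of_mem (Finset.mem_univ _),
    Finset.card_univ] at h
  rw [← Nat.card_eq_fintype_card, H.card, H.card_A, H.card_P] at h
  have h4 := H.four_ab
  have hs := H.sum
  obtain ⟨a', rfl⟩ : ∃ a', a = a' + 1 := ⟨a - 1, by have := H.ha; omega⟩
  obtain ⟨b', rfl⟩ : ∃ b', b = b' + 1 := ⟨b - 1, by have := H.hb; omega⟩
  simp only [Nat.add_sub_cancel] at h ⊢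
  have h' : 2 * (a' + 1) * (b' + 1) * q =
      4 * (a' + 1) * (b' + 1) + a' * (b' + 1) * q + (bSet X (b' + 1)).card + 1 := by
    have : 0 < 2 * (a' + 1) * (b' + 1) * q := Nat.mul_pos (by positivity) H.qpos
    omega
  nlinarith

theorem invol_bSet {t : X} (ht : orderOf t = 2) : t ∈ bSet X b := by
  refine mem_bSet.2 ⟨ne_one_of_invol ht, ?_⟩
  have h2 := dvd_cc_of_dvd_orderOf (ht.symm.dvd : 2 ∣ orderOf t)
  rcases H.cent t (ne_one_of_invol ht) with h | h | h | h
  · exact absurd (h ▸ h2) (fun hd => Nat.not_even_iff_odd.2 H.qodd (even_iff_two_dvd.2 hd))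
  · exact absurd (h ▸ h2) (fun hd => Nat.not_even_iff_odd.2 H.hao (even_iff_two_dvd.2 hd))
  · exact Or.inl h
  · exact Or.inr h

theorem invol_index_dvd {t : X} (ht : orderOf t = 2) :
    q * a ∣ (centralizer ({t} : Set X)).index := by
  rcases (mem_bSet.1 (H.invol_bSet ht)).2 with h | h
  · rw [index_of_cc H.bpos (m := 2 * (q * a)) (by rw [H.card]; ring) h]
    exact dvd_mul_left _ _
  · rw [index_of_cc (by have := H.hb; omega) (m := q * a) (by rw [H.card]; ring) h]

theorem exists_invol : ∃ t : X, orderOf t = 2 := by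
  haveI : Fact (Nat.Prime 2) := ⟨Nat.prime_two⟩
  exact exists_prime_orderOf_dvd_card' (G := X) 2 (by rw [H.card]; exact ⟨a * b * q, by ring⟩)

theorem card_I : (involsF X).card = q * a := by
  classical
  obtain ⟨w, hw⟩ := dvd_card_of_conj (involsF X)
    (fun g y hy => mem_involsF.2 ((orderOf_conj_eq g y).trans (mem_involsF.1 hy)))
    (fun y hy => H.invol_index_dvd (mem_involsF.1 hy))
  have hw0 : w ≠ 0 := by
    rintro rfl
    obtain ⟨t, ht⟩ := H.exists_invol
    rw [mul_zero, Finset.card_eq_zero] at hw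
    exact Finset.notMem_empty t (hw ▸ mem_involsF.2 ht)
  have hsum := sum_invs (X := X)
  rw [← Finset.add_sum_erase _ _ (Finset.mem_univ (1 : X)), invs_one, H.sum_erase_one] at hsum
  have h1 : ∑ x ∈ ofCent X q, (invs x).card ≤ 4 * a * b * q := by
    refine (Finset.sum_le_card_nsmul _ _ q fun x hx => ?_).trans (by rw [smul_eq_mul, H.card_P])
    exact (card_invs_le x).trans (mem_ofCent.1 hx).2.le
  have h2 : ∑ x ∈ ofCent X a, (invs x).card = (a - 1) * b * q * a := by
    rw [Finset.sum_const_nat (m := a) fun x hx => H.torusHyp.card_invs hx, H.card_A]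
  have h3 : ∑ x ∈ bSet X b, (invs x).card ≤ q * a * (b - 1) * (2 * b) := by
    refine (Finset.sum_le_card_nsmul _ _ (2 * b) fun x hx => ?_).trans (by rw [smul_eq_mul, H.card_B])
    refine (card_invs_le x).trans ?_
    rcases (mem_bSet.1 hx).2 with h | h <;> rw [h]
    omega
  have hle : (involsF X).card * (involsF X).card ≤
      (involsF X).card + (4 * a * b * q + (a - 1) * b * q * a + q * a * (b - 1) * (2 * b)) := by
    omega
  rw [hw] at hle ⊢
  by_contra hne
  have hw2 : 2 ≤ w := by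
    by_contra hc
    obtain rfl : w = 1 := by omega
    exact hne (mul_one _)
  obtain ⟨a', rfl⟩ : ∃ a', a = a' + 3 := ⟨a - 3, by have := H.ha; omega⟩
  obtain ⟨b', rfl⟩ : ∃ b', b = b' + 4 := ⟨b - 4, by have := H.hb; omega⟩
  simp only [show a' + 3 - 1 = a' + 2 by omega, show b' + 4 - 1 = b' + 3 by omega] at hle
  have hqa : 0 < q * (a' + 3) := Nat.mul_pos H.qpos (by omega)
  have hdiv : w * (q * (a' + 3) * w) ≤ w + (b' + 4) * (a' + 2 + 4 + 2 * (b' + 3)) := by
    refine Nat.le_of_mul_le_mul_left ?_ hqa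
    calc q * (a' + 3) * (w * (q * (a' + 3) * w))
        = q * (a' + 3) * w * (q * (a' + 3) * w) := by ring
      _ ≤ _ := hle
      _ = _ := by ring
  have hbig : 2 * (2 * (q * (a' + 3))) ≤ 2 + (b' + 4) * (a' + 2 + 4 + 2 * (b' + 3)) := by
    nlinarith
  have hs := H.sum
  have hnear := H.near
  subst hs
  rcases hnear with h | h
  · obtain rfl : a' = b' + 2 := by omega
    nlinarith
  · obtain rfl : b' = a' := by omega
    nlinarith

theorem invol_conj {s t : X} (hs : orderOf s = 2) (ht : orderOf t = 2) :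
    IsConj s t ∧ cc s = 2 * b := by
  classical
  have hsub : (ConjClasses.mk s).carrier.toFinset ⊆ involsF X := fun w hw => by
    rw [Set.mem_toFinset, ConjClasses.mem_carrier_iff_mk_eq, ConjClasses.mk_eq_mk_iff_isConj] at hw
    obtain ⟨g, rfl⟩ := isConj_iff.1 hw.symm
    exact mem_involsF.2 ((orderOf_conj_eq g s).trans hs)
  have hdvd := H.invol_index_dvd hs
  have hcard : (ConjClasses.mk s).carrier.toFinset.card = (centralizer ({s} : Set X)).index := by
    rw [← Nat.card_eq_card_toFinset, H27.card_carrier_eq_index]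
  have hle := Finset.card_le_card hsub
  have hge := Nat.le_of_dvd (H27.cent_pos s) hdvd
  have heq := Finset.eq_of_subset_of_card_le hsub (by rw [H.card_I, hcard]; exact hge)
  refine ⟨?_, ?_⟩
  · have := mem_involsF.2 ht
    rw [← heq, Set.mem_toFinset, ConjClasses.mem_carrier_iff_mk_eq] at this
    exact ConjClasses.mk_eq_mk_iff_isConj.1 this.symm
  · have hi : (centralizer ({s} : Set X)).index = q * a := by
      rw [← hcard, heq, H.card_I]
    have h1 := H27.card_cent_mul_index s
    rw [hi, H.card] at h1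
    refine Nat.eq_of_mul_eq_mul_right (Nat.mul_pos H.qpos H.apos) (h1.trans ?_)
    ring

theorem mI_invol {s t : X} (hs : orderOf s = 2) (ht : orderOf t = 2) : mI s = mI t := by
  obtain ⟨g, rfl⟩ := isConj_iff.1 (H.invol_conj hs ht).1
  exact (mI_conj g s).symm

theorem one_le_mI {x : X} (hx : x ∈ bSet X b) : 1 ≤ mI x := by
  classical
  haveI : Fact (Nat.Prime 2) := ⟨Nat.prime_two⟩
  obtain ⟨t, ht⟩ := exists_prime_orderOf_dvd_card' (G := centralizer ({x} : Set X)) 2 (by
    show 2 ∣ cc x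
    rcases (mem_bSet.1 hx).2 with h | h <;> rw [h]
    exacts [even_iff_two_dvd.1 H.hbe, dvd_mul_right 2 b])
  unfold mI
  refine Finset.card_pos.2 ⟨(t : X), Finset.mem_filter.2
    ⟨mem_involsF.2 (by rw [orderOf_coe]; exact ht), ?_⟩⟩
  exact (H27.mem_cent_comm.1 t.2).symm

theorem count_mI {t : X} (ht : orderOf t = 2) :
    q * a * mI t + ∑ x ∈ bSet X b \ involsF X, mI x ≤ q * a * (2 * b - 1) ∧
      (bSet X b \ involsF X).card = q * a * (b - 2) := by
  classical
  have hsub : involsF X ⊆ bSet X b := fun s hs => H.invol_bSet (mem_involsF.1 hs)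
  constructor
  · have h := sum_mI (X := X)
    rw [← Finset.add_sum_erase _ _ (Finset.mem_univ (1 : X)), mI_one,
      Finset.sum_const_nat (m := 2 * b) (fun s hs => (H.invol_conj (mem_involsF.1 hs) ht).2),
      H.sum_erase_one, ← Finset.sum_sdiff hsub,
      Finset.sum_const_nat (s := involsF X) (f := fun x => mI x) (m := mI t)
        (fun s hs => H.mI_invol (mem_involsF.1 hs) ht), H.card_I] at h
    obtain ⟨b', rfl⟩ : ∃ b', b = b' + 1 := ⟨b - 1, by have := H.hb; omega⟩
    rw [show q * a * (2 * (b' + 1)) = q * a + q * a * (2 * (b' + 1) - 1) by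
      rw [show 2 * (b' + 1) - 1 = 2 * b' + 1 by omega]; ring] at h
    omega
  · rw [Finset.card_sdiff_of_subset hsub, H.card_B, H.card_I]
    obtain ⟨b', rfl⟩ : ∃ b', b = b' + 2 := ⟨b - 2, by have := H.hb; omega⟩
    simp only [Nat.add_sub_cancel, show b' + 2 - 1 = b' + 1 by omega, mul_add, mul_one]

theorem mI_le {t : X} (ht : orderOf t = 2) : mI t ≤ b + 1 := by
  obtain ⟨h1, h2⟩ := H.count_mI ht
  have h3 : q * a * (b - 2) ≤ ∑ x ∈ bSet X b \ involsF X, mI x := by
    rw [← h2, Finset.card_eq_sum_ones]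
    exact Finset.sum_le_sum fun x hx => H.one_le_mI (Finset.mem_sdiff.1 hx).1
  obtain ⟨b', rfl⟩ : ∃ b', b = b' + 2 := ⟨b - 2, by have := H.hb; omega⟩
  rw [show b' + 2 - 2 = b' by omega] at h3
  rw [show 2 * (b' + 2) - 1 = b' + (b' + 3) by omega, Nat.mul_add (q * a) b'] at h1
  refine Nat.le_of_mul_le_mul_left ?_ (Nat.mul_pos H.qpos H.apos)
  rw [show b' + 2 + 1 = b' + 3 by omega]
  omega

theorem mI_eq_one {t : X} (ht : orderOf t = 2) (hm : mI t = b + 1) :
    ∀ x ∈ bSet X b, orderOf x ≠ 2 → mI x = 1 := by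
  intro x hx hx2
  obtain ⟨h1, h2⟩ := H.count_mI ht
  have hmem : x ∈ bSet X b \ involsF X := Finset.mem_sdiff.2 ⟨hx, fun h => hx2 (mem_involsF.1 h)⟩
  have hle := H.one_le_mI hx
  by_contra hne
  have h3 : (bSet X b \ involsF X).card < ∑ y ∈ bSet X b \ involsF X, mI y := by
    rw [Finset.card_eq_sum_ones]
    exact Finset.sum_lt_sum (fun y hy => H.one_le_mI (Finset.mem_sdiff.1 hy).1) ⟨x, hmem, by omega⟩
  rw [h2] at h3
  rw [hm] at h1
  obtain ⟨b', rfl⟩ : ∃ b', b = b' + 2 := ⟨b - 2, by have := H.hb; omega⟩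
  rw [show b' + 2 - 2 = b' by omega] at h3
  rw [show 2 * (b' + 2) - 1 = b' + (b' + 3) by omega, Nat.mul_add (q * a) b',
    show b' + 2 + 1 = b' + 3 by omega] at h1
  omega

end OddHyp

end H10.ClassSize
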