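import Cfsg.Agent.H10.ClassSize.OddInvol
import Cfsg.Agent.H1.SchurZassenhausConj

/-!
The centralizer of an involution in a group with the centralizer orders of `PSL₂(q)`, `q` odd.
-/

set_option autoImplicit false
set_option linter.unusedSectionVars false
set_option linter.style.haveILetI false

namespace H10.ClassSize

open Subgroup

variable {X : Type*} [Group X] [Fintype X] [DecidableEq X]

/-- If every nonidentity element of `P` has centralizer `P` and all centralizers of this order are
conjugate to `P`, the elements of `ofCent` are counted by the conjugates of `P`. -/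
theorem card_ofCent_eq {P : Subgroup X} {c : ℕ} (hc : Nat.card P = c)
    (hP : ∀ y ∈ P, y ≠ 1 → centralizer ({y} : Set X) = P)
    (hconj : ∀ x ∈ ofCent X c, ∃ g : X, g⁻¹ * x * g ∈ P) :
    (normalizer (P : Set X)).index * (c - 1) = (ofCent X c).card := by
  classical
  set N := normalizer (P : Set X) with hN
  have hmem : ∀ y ∈ P, y ≠ 1 → y ∈ ofCent X c := fun y hy hy1 =>
    mem_ofCent.2 ⟨hy1, by rw [← hc]; show Nat.card (centralizer ({y} : Set X)) = _; rw [hP y hy hy1]⟩
  have hnorm : ∀ (g y : X), y ∈ P → y ≠ 1 → g * y * g⁻¹ ∈ P → g ∈ N := fun g y hy hy1 hgy => by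
    have h1 : P.map (MulAut.conj g).toMonoidHom = P := by
      conv_rhs => rw [← hP _ hgy (fun h => hy1 (conj_eq_one_iff.1 h)), H27.cent_conj, hP y hy hy1]
    rw [hN, mem_normalizer_iff]
    intro w
    refine ⟨fun hw => h1 ▸ mem_map_of_mem _ hw, fun hw => ?_⟩
    rw [← h1] at hw
    obtain ⟨v, hv, hvw⟩ := hw
    obtain rfl : v = w := (MulAut.conj g).injective (by simpa using hvw)
    exact hv
  let ψ : (X ⧸ N) × {y : P // y ≠ 1} → {y : X // y ∈ ofCent X c} := fun p =>
    ⟨p.1.out * (p.2.1 : X) * p.1.out⁻¹,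
      ofCent_conj _ (hmem _ p.2.1.2 fun h => p.2.2 (Subtype.ext h))⟩
  have hψ : Function.Bijective ψ := by
    constructor
    · rintro ⟨c₁, y₁⟩ ⟨c₂, y₂⟩ h
      have h' : c₁.out * (y₁.1 : X) * c₁.out⁻¹ = c₂.out * (y₂.1 : X) * c₂.out⁻¹ :=
        congrArg Subtype.val h
      have h2 : c₂.out⁻¹ * c₁.out ∈ N := by
        refine hnorm _ _ y₁.1.2 (fun h => y₁.2 (Subtype.ext h)) ?_
        rw [show c₂.out⁻¹ * c₁.out * (y₁.1 : X) * (c₂.out⁻¹ * c₁.out)⁻¹ =
          c₂.out⁻¹ * (c₁.out * (y₁.1 : X) * c₁.out⁻¹) * c₂.out by group, h',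
          show c₂.out⁻¹ * (c₂.out * (y₂.1 : X) * c₂.out⁻¹) * c₂.out = (y₂.1 : X) by group]
        exact y₂.1.2
      have h3 : c₁ = c₂ := by
        rw [← QuotientGroup.out_eq' c₁, ← QuotientGroup.out_eq' c₂, QuotientGroup.eq]
        simpa using N.inv_mem h2
      subst h3
      exact Prod.ext rfl (Subtype.ext (Subtype.ext (by simpa using h')))
    · rintro ⟨y, hy⟩
      obtain ⟨g, hg⟩ := hconj y hy
      obtain ⟨n, hn⟩ := QuotientGroup.mk_out_eq_mul N g
      set o := ((g : X ⧸ N)).out
      have ho : o⁻¹ * y * o ∈ P := by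
        rw [hn, show (g * (n : X))⁻¹ * y * (g * n) = (n : X)⁻¹ * (g⁻¹ * y * g) * n by group]
        have h5 := (mem_normalizer_iff.1 (N.inv_mem n.2) _).1 hg
        rwa [inv_inv] at h5
      refine ⟨((g : X ⧸ N), ⟨⟨_, ho⟩, fun h => (mem_ofCent.1 hy).1 ?_⟩), Subtype.ext ?_⟩
      · have h5 : o⁻¹ * y * o = 1 := congrArg Subtype.val h
        calc y = o * (o⁻¹ * y * o) * o⁻¹ := by group
          _ = 1 := by rw [h5]; group
      · show o * (o⁻¹ * y * o) * o⁻¹ = y
        group
  have h1 := Nat.card_eq_of_bijective ψ hψ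
  rw [Nat.card_prod, Nat.card_eq_finsetCard, Nat.card_eq_fintype_card (α := {y : P // y ≠ 1}),
    Fintype.card_subtype_compl, Fintype.card_subtype_eq, ← Nat.card_eq_fintype_card, hc] at h1
  exact h1

namespace OddHyp

variable {q a b : ℕ} (H : OddHyp X q a b)

include H

/-- Structure of the centralizer of a `B`-element with an inverting involution. -/
theorem inverted {x s : X} (hx : x ∈ bSet X b) (hx2 : orderOf x ≠ 2) (hs : s ∈ invs x) :
    cc x = b ∧ s ∉ centralizer ({x} : Set X) ∧
    (∀ k ∈ centralizer ({x} : Set X), s * k * s⁻¹ ∈ centralizer ({x} : Set X)) ∧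
    ∃ t : X, orderOf t = 2 ∧ t ∈ centralizer ({x} : Set X) ∧ s ∈ centralizer ({t} : Set X) ∧
      centralizer ({x} : Set X) ≤ centralizer ({t} : Set X) ∧
      ∀ g ∈ centralizer ({t} : Set X),
        g ∈ centralizer ({x} : Set X) ∨ g * s ∈ centralizer ({x} : Set X) := by
  classical
  haveI : Fact (Nat.Prime 2) := ⟨Nat.prime_two⟩
  set L := centralizer ({x} : Set X) with hL
  obtain ⟨hx1, hxc⟩ := mem_bSet.1 hx
  have hsx := conj_eq_inv_of_mem_invs hs
  have hso := (mem_invs.1 hs).1
  have hsL : s ∉ L := fun h => by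
    rw [H27.mem_cent.1 h, mul_inv_cancel_right] at hsx
    refine hx2 (orderOf_eq_prime ?_ hx1)
    rw [pow_two]
    conv_lhs => arg 2; rw [hsx]
    exact mul_inv_cancel x
  have hnorm : ∀ k ∈ L, s * k * s⁻¹ ∈ L := fun k hk => by
    have h2 : Commute k x⁻¹ := (H27.mem_cent_comm.1 hk).symm.inv_right
    have h3 := h2.map (MulAut.conj s).toMonoidHom
    simp only [MulEquiv.toMonoidHom_eq_coe, MonoidHom.coe_coe, MulAut.conj_apply] at h3
    rw [show s * x⁻¹ * s⁻¹ = (s * x * s⁻¹)⁻¹ by group, hsx, inv_inv] at h3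
    exact H27.mem_cent_comm.2 h3.symm
  have hN : zpowers s ≤ normalizer (L : Set X) := zpowers_le.2 (mem_normalizer_iff.2 fun k =>
    ⟨hnorm k, fun hk => by
      have h1 := hnorm _ hk
      rwa [show s * (s * k * s⁻¹) * s⁻¹ = (s * s) * k * (s * s)⁻¹ by group, mul_self_eq_one hso,
        one_mul, inv_one, mul_one] at h1⟩)
  have hsplit : ∀ g ∈ L ⊔ zpowers s, g ∈ L ∨ g * s ∈ L := fun g hg => by
    obtain ⟨k, hk, w, hw, rfl⟩ := H1.exists_mul_of_mem_sup hN hg
    obtain ⟨n, rfl⟩ := hw
    rcases Int.even_or_odd n with ⟨m, rfl⟩ | ⟨m, rfl⟩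
    · left
      dsimp only
      rw [zpow_add, ← (Commute.refl s).mul_zpow, mul_self_eq_one hso, one_zpow, mul_one]
      exact hk
    · right
      dsimp only
      rw [zpow_add, zpow_one, zpow_mul, zpow_two, mul_self_eq_one hso, one_zpow, one_mul, mul_assoc,
        mul_self_eq_one hso, mul_one]
      exact hk
  have hcard : Nat.card (L ⊔ zpowers s : Subgroup X) = 2 * cc x := by
    have e : Finset.univ.filter (fun g => g ∈ L ⊔ zpowers s) =
        Finset.univ.filter (fun g => g ∈ L) ∪ (Finset.univ.filter (fun g => g ∈ L)).image (· * s) := by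
      ext g
      simp only [Finset.mem_filter, Finset.mem_univ, true_and, Finset.mem_union, Finset.mem_image]
      constructor
      · intro hg
        rcases hsplit g hg with h | h
        · exact Or.inl h
        · exact Or.inr ⟨g * s, h, by rw [mul_assoc, mul_self_eq_one hso, mul_one]⟩
      · rintro (h | ⟨k, hk, rfl⟩)
        · exact mem_sup_left h
        · exact mul_mem (mem_sup_left hk) (mem_sup_right (mem_zpowers s))
    have hd : Disjoint (Finset.univ.filter (fun g => g ∈ L))
        ((Finset.univ.filter (fun g => g ∈ L)).image (· * s)) := by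
      rw [Finset.disjoint_left]
      intro g hg hg'
      simp only [Finset.mem_filter, Finset.mem_univ, true_and, Finset.mem_image] at hg hg'
      obtain ⟨k, hk, rfl⟩ := hg'
      exact hsL (by simpa using L.mul_mem (L.inv_mem hk) hg)
    have h2 := congrArg Finset.card e
    rw [Finset.card_union_of_disjoint hd, Finset.card_image_of_injective _ (mul_left_injective s),
      ← Fintype.card_subtype, ← Fintype.card_subtype, ← Nat.card_eq_fintype_card,
      ← Nat.card_eq_fintype_card] at h2
    change Nat.card (L ⊔ zpowers s : Subgroup X) = cc x + cc x at h2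
    omega
  have hxb : cc x = b := by
    refine hxc.resolve_right fun h2b => ?_
    have hd := card_subgroup_dvd_card (L ⊔ zpowers s)
    rw [hcard, h2b, H.card, show 2 * (2 * b) = 2 * b * 2 by ring,
      show 2 * a * b * q = 2 * b * (a * q) by ring, Nat.mul_dvd_mul_iff_left (by have := H.hb; omega)] at hd
    exact Nat.not_even_iff_odd.2 (H.hao.mul H.qodd) (even_iff_two_dvd.2 hd)
  refine ⟨hxb, hsL, hnorm, ?_⟩
  obtain ⟨t, ht, htL, hts, htle⟩ : ∃ t : X, orderOf t = 2 ∧ t ∈ L ∧ s ∈ centralizer ({t} : Set X) ∧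
      L ≤ centralizer ({t} : Set X) := by
    rcases Nat.even_or_odd (orderOf x) with he | ho
    · set w := x ^ (orderOf x / 2) with hwdef
      have hw : orderOf w = 2 := orderOf_pow_orderOf_div (orderOf_pos x).ne' (even_iff_two_dvd.1 he)
      refine ⟨w, hw, L.pow_mem (H27.mem_cent.2 rfl) _, H27.mem_cent.2 ?_, H27.cent_le_cent_pow x _⟩
      have h3 : s * w * s⁻¹ = w := by
        conv_rhs => rw [← inv_eq_self hw]
        rw [hwdef, ← conj_pow, hsx, inv_pow]
      exact mul_inv_eq_iff_eq_mul.1 h3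
    · have key : ∀ v ∈ L, orderOf v = 2 → L ≤ centralizer ({v} : Set X) := by
        intro v hv hvo
        have hc : Commute v x := (H27.mem_cent_comm.1 hv).symm
        have hco : (orderOf v).Coprime (orderOf x) := by rw [hvo]; exact Nat.coprime_two_left.2 ho
        have hev : 2 ∣ orderOf (v * x) := by
          rw [hc.orderOf_mul_eq_mul_orderOf_of_coprime hco, hvo]; exact dvd_mul_right 2 _
        have hne : v * x ≠ 1 := fun h => by rw [h, orderOf_one] at hev; omega
        have hle := H27.cent_mul_le_right hc hco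
        have hge : b ≤ cc (v * x) := by
          have h2 := dvd_cc_of_dvd_orderOf hev
          rcases H.cent _ hne with h | h | h | h
          · exact absurd (h ▸ h2) (fun hd => Nat.not_even_iff_odd.2 H.qodd (even_iff_two_dvd.2 hd))
          · exact absurd (h ▸ h2) (fun hd => Nat.not_even_iff_odd.2 H.hao (even_iff_two_dvd.2 hd))
          · rw [h]
          · rw [h]; omega
        rw [hL, ← eq_of_le_of_card_ge hle (le_of_eq_of_le hxb hge)]
        exact H27.cent_mul_le_left hc hco
      obtain ⟨⟨v, hv⟩, hvo⟩ := exists_prime_orderOf_dvd_card' (G := L) 2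
        (by show 2 ∣ cc x; rw [hxb]; exact even_iff_two_dvd.1 H.hbe)
      rw [orderOf_mk] at hvo
      have hv'L : s * v * s⁻¹ ∈ L := hnorm v hv
      have hv'o : orderOf (s * v * s⁻¹) = 2 := (orderOf_conj_eq s v).trans hvo
      by_cases hvv : s * v * s⁻¹ = v
      · exact ⟨v, hvo, hv, H27.mem_cent.2 (mul_inv_eq_iff_eq_mul.1 hvv), key v hv hvo⟩
      · have hc : Commute (s * v * s⁻¹) v := H27.mem_cent_comm.1 (key _ hv'L hv'o hv) 
        refine ⟨v * (s * v * s⁻¹), orderOf_eq_prime ?_ fun h => hvv ?_, L.mul_mem hv hv'L,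
          H27.mem_cent.2 ?_, ?_⟩
        · rw [hc.symm.mul_pow, pow_two, pow_two, mul_self_eq_one hvo, mul_self_eq_one hv'o, one_mul]
        · rw [eq_inv_of_mul_eq_one_right h, inv_eq_self hvo]
        · calc s * (v * (s * v * s⁻¹)) = (s * v * s⁻¹) * ((s * s) * v * s⁻¹) := by group
            _ = (s * v * s⁻¹) * v * s⁻¹ := by rw [mul_self_eq_one hso, one_mul, ← mul_assoc]
            _ = v * (s * v * s⁻¹) * s := by rw [hc.eq, inv_eq_self hso]
        · intro g hg
          exact H27.mem_cent_comm.2 (((H27.mem_cent_comm.1 (key v hv hvo hg))).mul_left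
            (H27.mem_cent_comm.1 (key _ hv'L hv'o hg)))
  refine ⟨t, ht, htL, hts, htle, fun g hg => hsplit g ?_⟩
  have : L ⊔ zpowers s = centralizer ({t} : Set X) :=
    eq_of_le_of_card_ge (sup_le htle (zpowers_le.2 hts))
      (by show cc t ≤ _; rw [hcard, hxb, (H.invol_conj ht ht).2])
  rwa [this]

theorem invs_B_le {x t : X} (hx : x ∈ bSet X b) (ht : orderOf t = 2) :
    (invs x).card ≤ mI t - 1 := by
  classical
  by_cases hx2 : orderOf x = 2
  · refine (Finset.card_le_card (invs_subset_of_invol hx2)).trans ?_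
    rw [H.mI_invol ht hx2, Finset.card_erase_of_mem
      (show x ∈ (involsF X).filter (fun s => Commute s x) from
        Finset.mem_filter.2 ⟨mem_involsF.2 hx2, Commute.refl x⟩)]
    simp [mI]
  rcases (invs x).eq_empty_or_nonempty with h | ⟨s, hs⟩
  · simp [h]
  obtain ⟨-, -, -, t₀, ht₀, ht₀L, hst₀, hle₀, -⟩ := H.inverted hx hx2 hs
  have hsub : invs x ⊆ ((involsF X).filter fun r => Commute r t₀).erase t₀ := by
    intro r hr
    obtain ⟨-, hrL, -, -⟩ := H.inverted hx hx2 hr
    refine Finset.mem_erase.2 ⟨fun h => hrL (h ▸ ht₀L), Finset.mem_filter.2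
      ⟨mem_involsF.2 (mem_invs.1 hr).1, ?_⟩⟩
    have h1 : r⁻¹ * s ∈ centralizer ({x} : Set X) := H27.mem_cent.2 (by
      calc r⁻¹ * s * x = r⁻¹ * (s * x * s⁻¹) * s := by group
        _ = r⁻¹ * (r * x * r⁻¹) * s := by
          rw [conj_eq_inv_of_mem_invs hs, conj_eq_inv_of_mem_invs hr]
        _ = x * (r⁻¹ * s) := by group)
    have h2 := mul_mem hst₀ (inv_mem (hle₀ h1))
    rw [show s * (r⁻¹ * s)⁻¹ = r by group] at h2
    exact (H27.mem_cent_comm.1 h2).symm
  refine (Finset.card_le_card hsub).trans ?_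
  rw [H.mI_invol ht ht₀, Finset.card_erase_of_mem
    (show t₀ ∈ (involsF X).filter (fun r => Commute r t₀) from
      Finset.mem_filter.2 ⟨mem_involsF.2 ht₀, Commute.refl t₀⟩)]
  simp [mI]

end OddHyp

end H10.ClassSize
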