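import Mathlib

/-!
Numerical data attached to the class sizes of `PSL₂(q)`: the centralizer orders are
`q`, `a`, `b` and `e * b`.
-/

set_option autoImplicit false

namespace H10.ClassSize

/-- `q = p ^ f`, `a` and `b` are the torus orders, `e = gcd (2, q - 1)`. -/
structure Params (p q e a b : ℕ) : Prop where
  hp : p.Prime
  hq : ∃ f, q = p ^ f
  q2 : 2 ≤ q
  ha : 3 ≤ a
  hb : 3 ≤ b
  hao : Odd a
  hab : a.Coprime b
  haq : a.Coprime q
  hbq : b.Coprime q
  he : (e = 1 ∧ Odd b ∧ p = 2) ∨ (e = 2 ∧ Even b ∧ p ≠ 2)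

namespace Params

variable {p q e a b : ℕ} (S : Params p q e a b)

include S

theorem e_pos : 1 ≤ e := by rcases S.he with ⟨h, -⟩ | ⟨h, -⟩ <;> omega

theorem e_le : e ≤ 2 := by rcases S.he with ⟨h, -⟩ | ⟨h, -⟩ <;> omega

theorem aeb : a.Coprime (e * b) := by
  refine Nat.Coprime.mul_right ?_ S.hab
  rcases S.he with ⟨h, -⟩ | ⟨h, -⟩ <;> subst h
  · exact Nat.coprime_one_right a
  · exact Nat.coprime_two_right.2 S.hao

theorem qe : q.Coprime e := by
  obtain ⟨f, rfl⟩ := S.hq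
  rcases S.he with ⟨h, -⟩ | ⟨h, -, hp⟩ <;> subst h
  · exact Nat.coprime_one_right _
  · exact ((Nat.coprime_primes S.hp Nat.prime_two).2 hp).pow_left f

theorem qeb : q.Coprime (e * b) := Nat.Coprime.mul_right S.qe S.hbq.symm

theorem p_dvd : p ∣ q := by
  obtain ⟨f, rfl⟩ := S.hq
  refine dvd_pow_self p fun h => ?_
  have := S.q2
  rw [h, pow_zero] at this
  omega

theorem not_dvd_of_coprime {m : ℕ} (h : q.Coprime m) : ¬ p ∣ m := fun hd =>
  S.hp.ne_one (Nat.eq_one_of_dvd_coprimes h S.p_dvd hd)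

theorem eq_p_of_dvd {r : ℕ} (hr : r.Prime) (h : r ∣ q) : r = p := by
  obtain ⟨f, rfl⟩ := S.hq
  exact (Nat.prime_dvd_prime_iff_eq hr S.hp).1 (hr.dvd_of_dvd_pow h)

theorem not_a_dvd_eb : ¬ a ∣ e * b := fun h => by
  have := Nat.eq_one_of_dvd_coprimes S.aeb dvd_rfl h
  have := S.ha; omega

theorem not_a_dvd_q : ¬ a ∣ q := fun h => by
  have := Nat.eq_one_of_dvd_coprimes S.haq dvd_rfl h
  have := S.ha; omega

theorem not_b_dvd_q : ¬ b ∣ q := fun h => by
  have := Nat.eq_one_of_dvd_coprimes S.hbq dvd_rfl h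
  have := S.hb; omega

theorem not_b_dvd_a : ¬ b ∣ a := fun h => by
  have := Nat.eq_one_of_dvd_coprimes S.hab h dvd_rfl
  have := S.hb; omega

theorem u_ne_one : e * a * b ≠ 1 := by
  have h1 := S.e_pos; have h2 := S.ha; have h3 := S.hb
  simp only [ne_eq, mul_eq_one]
  omega

theorem A_ne_one : e * q * b ≠ 1 := by
  have h1 := S.hb
  simp only [ne_eq, mul_eq_one]
  omega

theorem B_ne_one : e * q * a ≠ 1 := by
  have h1 := S.ha
  simp only [ne_eq, mul_eq_one]
  omega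

theorem i_ne_one : q * a ≠ 1 := by
  have h1 := S.ha
  simp only [ne_eq, mul_eq_one]
  omega

/-- `u` does not divide `A`, `B` or `i`. -/
theorem not_u_dvd {x : ℕ} (hx : x = e * q * b ∨ x = e * q * a ∨ x = q * a) : ¬ e * a * b ∣ x := by
  intro h
  have he := S.e_pos
  rcases hx with rfl | rfl | rfl
  · rw [mul_assoc, mul_assoc, Nat.mul_dvd_mul_iff_left he,
      Nat.mul_dvd_mul_iff_right (by have := S.hb; omega)] at h
    exact S.not_a_dvd_q h
  · rw [mul_assoc, mul_assoc, Nat.mul_dvd_mul_iff_left he, mul_comm q a,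
      Nat.mul_dvd_mul_iff_left (by have := S.ha; omega)] at h
    exact S.not_b_dvd_q h
  · have h' : b ∣ q * a := (Dvd.intro_left _ rfl).trans h
    exact S.not_b_dvd_q (S.hab.symm.dvd_of_dvd_mul_right h')

/-- `p` divides `A`, `B` and `i` but not `u`. -/
theorem p_dvd_size {x : ℕ} (hx : x = e * q * b ∨ x = e * q * a ∨ x = q * a) : p ∣ x := by
  rcases hx with rfl | rfl | rfl
  · exact (S.p_dvd.mul_left e).mul_right b
  · exact (S.p_dvd.mul_left e).mul_right a
  · exact S.p_dvd.mul_right a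

theorem p_not_dvd_u : ¬ p ∣ e * a * b := by
  apply S.not_dvd_of_coprime
  exact Nat.Coprime.mul_right (Nat.Coprime.mul_right S.qe S.haq.symm) S.hbq.symm

theorem not_dvd_u {x : ℕ} (hx : x = e * q * b ∨ x = e * q * a ∨ x = q * a) : ¬ x ∣ e * a * b :=
  fun h => S.p_not_dvd_u ((S.p_dvd_size hx).trans h)

theorem not_dvd_A {x : ℕ} (hx : x = e * a * b ∨ x = e * q * a ∨ x = q * a) : ¬ x ∣ e * q * b := by
  intro h
  rcases hx with rfl | hx
  · exact S.not_u_dvd (Or.inl rfl) h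
  · have h' : a ∣ e * q * b := by
      rcases hx with rfl | rfl
      · exact (Dvd.intro_left _ rfl).trans h
      · exact (Dvd.intro_left _ rfl).trans h
    rw [show e * q * b = (e * b) * q by ring] at h'
    exact S.not_a_dvd_eb (S.haq.dvd_of_dvd_mul_right h')

theorem not_A_dvd {x : ℕ} (hx : x = e * a * b ∨ x = e * q * a ∨ x = q * a) : ¬ e * q * b ∣ x := by
  intro h
  have hb : b ∣ x := (Dvd.intro_left _ rfl).trans h
  rcases hx with rfl | rfl | rfl
  · exact S.p_not_dvd_u ((S.p_dvd_size (Or.inl rfl)).trans h)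
  · rw [Nat.mul_dvd_mul_iff_left (Nat.mul_pos S.e_pos (by have := S.q2; omega))] at h
    exact S.not_b_dvd_a h
  · exact S.not_b_dvd_q (S.hab.symm.dvd_of_dvd_mul_right hb)

theorem not_B_dvd {x : ℕ} (hx : x = e * a * b ∨ x = e * q * b) : ¬ e * q * a ∣ x := by
  rcases hx with rfl | rfl
  · exact S.not_dvd_u (Or.inr (Or.inl rfl))
  · exact S.not_dvd_A (Or.inr (Or.inl rfl))

theorem not_i_dvd {x : ℕ} (hx : x = e * a * b ∨ x = e * q * b) : ¬ q * a ∣ x := by
  rcases hx with rfl | rfl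
  · exact S.not_dvd_u (Or.inr (Or.inr rfl))
  · exact S.not_dvd_A (Or.inr (Or.inr rfl))

/-- the order of the group -/
theorem lcm_dvd {m : ℕ} (h1 : e * a * b ∣ m) (h2 : q ∣ m) : e * a * b * q ∣ m :=
  Nat.Coprime.mul_dvd_of_dvd_of_dvd
    (Nat.Coprime.mul_right (Nat.Coprime.mul_right S.qe S.haq.symm) S.hbq.symm).symm h1 h2

end Params

end H10.ClassSize
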