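import Cfsg.Agent.H10.ClassSize.Reduce
import Cfsg.Agent.H36.TwoClassSizes

/-!
The centralizer orders in the central quotient.
-/

set_option autoImplicit false
set_option linter.unusedSectionVars false
set_option linter.style.haveILetI false

namespace H10.ClassSize

open Subgroup

variable {G : Type*} [Group G] [Finite G]

/-- the preimage of the centralizer in the central quotient -/
abbrev cstar (x : G) : Subgroup G :=
  (centralizer ({(x : G ⧸ center G)} : Set (G ⧸ center G))).comap (QuotientGroup.mk' (center G))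

theorem mem_cstar {x g : G} : g ∈ cstar x ↔ g * x * g⁻¹ * x⁻¹ ∈ center G := by
  rw [mem_comap, mem_centralizer_singleton_iff, ← mul_inv_eq_one, ← QuotientGroup.eq_one_iff]
  simp [mul_inv_rev, mul_assoc]

theorem cent_le_cstar (x : G) : centralizer ({x} : Set G) ≤ cstar x := fun g hg => by
  rw [mem_cstar, mem_centralizer_singleton_iff.1 hg]
  simp

theorem cstar_le_pow (x : G) (k : ℕ) : cstar x ≤ cstar (x ^ k) := fun g hg => by
  rw [mem_comap] at hg ⊢
  rw [QuotientGroup.mk_pow]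
  exact H27.cent_le_cent_pow (x : G ⧸ center G) k hg

theorem dq_mul_index (x : G) : dq x * (cstar x).index = (center G).index := by
  rw [index_comap_of_surjective _ (QuotientGroup.mk'_surjective _)]
  exact card_mul_index _

theorem dq_dvd_of_le {x y : G} (h : cstar x ≤ cstar y) : dq x ∣ dq y := by
  obtain ⟨c, hc⟩ := index_dvd_of_le h
  have h1 := dq_mul_index x
  rw [hc, mul_comm _ c, ← mul_assoc, ← dq_mul_index y] at h1
  exact ⟨c, (Nat.eq_of_mul_eq_mul_right (Nat.pos_of_ne_zero index_ne_zero_of_finite) h1).symm⟩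

theorem kc_dvd_dq (x : G) : kc x ∣ dq x := by
  obtain ⟨c, hc⟩ := index_dvd_of_le (cent_le_cstar x)
  have h1 : kc x * ((cstar x).index * c) = dq x * (cstar x).index := by
    rw [← hc, dq_mul_index]
    exact kc_mul_cs x
  rw [mul_comm _ c, ← mul_assoc] at h1
  exact ⟨c, (Nat.eq_of_mul_eq_mul_right (Nat.pos_of_ne_zero index_ne_zero_of_finite) h1).symm⟩

theorem cstar_eq_cent {x : G} (h : dq x = kc x) : cstar x = centralizer ({x} : Set G) := by
  refine (eq_of_index_eq (cent_le_cstar x) ?_).symm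
  have h1 := (kc_mul_cs x).trans (dq_mul_index x).symm
  rw [h] at h1
  exact Nat.eq_of_mul_eq_mul_left (Nat.pos_of_ne_zero fun h0 => index_ne_zero_of_finite
    (H := center G) (by rw [← kc_mul_cs x, h0, zero_mul])) h1

/-- `[C*(y) : C(y)]` is a power of `r` for an `r`-element `y`. -/
theorem dq_eq_kc_mul_pow {r : ℕ} [Fact r.Prime] {y : G} (hy : ∃ j, orderOf y = r ^ j) :
    ∃ j, dq y = kc y * r ^ j := by
  obtain ⟨i, hi⟩ := hy
  let f : cstar y →* center G := MonoidHom.mk'
    (fun g => ⟨(g : G) * y * (g : G)⁻¹ * y⁻¹, mem_cstar.1 g.2⟩) (fun g h => Subtype.ext (by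
      have hc := mem_cstar.1 h.2
      show (g : G) * h * y * ((g : G) * h)⁻¹ * y⁻¹ = _
      calc (g : G) * h * y * ((g : G) * h)⁻¹ * y⁻¹
          = (g : G) * ((h : G) * y * (h : G)⁻¹ * y⁻¹) * (y * (g : G)⁻¹ * y⁻¹) := by group
        _ = ((h : G) * y * (h : G)⁻¹ * y⁻¹) * (g : G) * (y * (g : G)⁻¹ * y⁻¹) := by
          rw [← mem_center_iff.1 hc (g : G)]
        _ = ((h : G) * y * (h : G)⁻¹ * y⁻¹) * ((g : G) * y * (g : G)⁻¹ * y⁻¹) := by group
        _ = _ := (mem_center_iff.1 hc _).symm))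
  have hker : f.ker = (centralizer ({y} : Set G)).subgroupOf (cstar y) := by
    ext g
    rw [MonoidHom.mem_ker, mem_subgroupOf, mem_centralizer_singleton_iff, ← Subtype.val_inj]
    show (g : G) * y * (g : G)⁻¹ * y⁻¹ = 1 ↔ _
    rw [mul_inv_eq_one, mul_inv_eq_iff_eq_mul]
  have hp : IsPGroup r f.range := by
    rintro ⟨_, g, rfl⟩
    refine ⟨i, Subtype.ext (Subtype.ext ?_)⟩
    show ((g : G) * y * (g : G)⁻¹ * y⁻¹) ^ (r ^ i) = 1
    have hc := mem_cstar.1 g.2
    have h1 : ((g : G) * y * (g : G)⁻¹) ^ (r ^ i) = 1 := by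
      rw [conj_pow, ← hi, pow_orderOf_eq_one]; group
    have h2 : Commute ((g : G) * y * (g : G)⁻¹ * y⁻¹) y := (mem_center_iff.1 hc y).symm
    rw [show (g : G) * y * (g : G)⁻¹ = ((g : G) * y * (g : G)⁻¹ * y⁻¹) * y by group, h2.mul_pow,
      ← hi, pow_orderOf_eq_one, mul_one] at h1
    rwa [hi] at h1
  obtain ⟨j, hj⟩ := IsPGroup.iff_card.1 hp
  refine ⟨j, ?_⟩
  have h1 : (centralizer ({y} : Set G)).relIndex (cstar y) = r ^ j := by
    rw [relIndex, ← hker, index_ker, hj]
  have h2 := relIndex_mul_index (cent_le_cstar y)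
  rw [h1] at h2
  have h3 := (kc_mul_cs y).trans (dq_mul_index y).symm
  rw [show cs y = r ^ j * (cstar y).index from h2.symm, ← mul_assoc] at h3
  exact (Nat.eq_of_mul_eq_mul_right (Nat.pos_of_ne_zero index_ne_zero_of_finite) h3).symm

namespace Sizes

variable {p q e a b : ℕ} (S : Sizes G p q e a b)

include S

theorem card_quot : Nat.card (G ⧸ center G) = e * a * b * q := S.index_center

theorem dq_dvd (x : G) : dq x ∣ e * a * b * q := ⟨_, (S.index_center ▸ dq_mul_index x).symm⟩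

theorem dq_primary {r : ℕ} [hr : Fact r.Prime] {y : G} (hy : ∃ j, orderOf y = r ^ j)
    (hyZ : y ∉ center G) :
    (kc y = q ∧ dq y = q) ∨ (kc y = a ∧ dq y = a) ∨
      ((kc y = b ∨ kc y = e * b) ∧ dq y ∣ e * b) := by
  obtain ⟨j, hj⟩ := dq_eq_kc_mul_pow hy
  have hrk : r ∣ kc y :=
    dvd_relIndex_of_pEl (mem_centralizer_singleton_iff.2 rfl) hyZ hy
  have hd := S.dq_dvd y
  have zero_of : ∀ {m : ℕ}, r.Coprime m → r ^ j ∣ m → r ^ j = 1 := fun hc hd' =>
    Nat.eq_one_of_dvd_coprimes (hc.pow_left j) dvd_rfl hd'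
  rcases S.kc_cases hyZ with ⟨-, h⟩ | ⟨-, h⟩ | ⟨-, h⟩ | ⟨-, h⟩
  · left
    refine ⟨h, ?_⟩
    rw [h] at hrk hj
    rw [hj, mul_comm q, Nat.mul_dvd_mul_iff_right (by have := S.q2; omega)] at hd
    rw [hj, zero_of ?_ hd, mul_one]
    exact ((Nat.Coprime.mul_right (Nat.Coprime.mul_right S.qe S.haq.symm)
      S.hbq.symm)).coprime_dvd_left hrk
  · right; left
    refine ⟨h, ?_⟩
    rw [h] at hrk hj
    rw [hj, mul_comm a, show e * a * b * q = (e * b * q) * a by ring,
      Nat.mul_dvd_mul_iff_right (by have := S.ha; omega)] at hd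
    rw [hj, zero_of ?_ hd, mul_one]
    exact (Nat.Coprime.mul_right S.aeb S.haq).coprime_dvd_left hrk
  all_goals
    right; right
    refine ⟨by tauto, ?_⟩
    have hreb : r ∣ e * b := by
      rw [h] at hrk
      first | exact hrk | exact hrk.mul_left e
    have hc : (kc y * r ^ j).Coprime (a * q) := by
      refine Nat.Coprime.mul_left ?_ (Nat.Coprime.pow_left j ?_)
      · have := Nat.Coprime.mul_right S.aeb.symm S.qeb.symm
        rw [h]
        first | exact this | exact this.coprime_mul_left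
      · exact (Nat.Coprime.mul_right S.aeb.symm S.qeb.symm).coprime_dvd_left hreb
    rw [hj] at hd ⊢
    rw [show e * a * b * q = (e * b) * (a * q) by ring] at hd
    exact hc.dvd_of_dvd_mul_right hd

theorem dq_cases {x : G} (hx : x ∉ center G) :
    (dq x = kc x ∧ (dq x = q ∨ dq x = a ∨ dq x = b ∨ dq x = e * b)) ∨
      (kc x = b ∧ dq x = e * b) := by
  obtain ⟨r, hr, k, hk, hkZ⟩ := H36.exists_primary_not_mem (center G) hx
  have hle := dq_dvd_of_le (cstar_le_pow x k)
  have hkx := (kc_dvd_dq x).trans hle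
  have hq1 : q ≠ 1 := by have := S.q2; omega
  have ha1 : a ≠ 1 := by have := S.ha; omega
  have hb1 : b ≠ 1 := by have := S.hb; omega
  have co : ∀ {m k : ℕ}, m.Coprime k → k ≠ 1 → ¬ k ∣ m := fun hc hk hd =>
    hk (Nat.eq_one_of_dvd_coprimes hc hd dvd_rfl)
  have heb1 : e * b ≠ 1 := fun h => hb1 (mul_eq_one.1 h).2
  rcases S.dq_primary hk hkZ with ⟨-, hd⟩ | ⟨-, hd⟩ | ⟨-, hd⟩
  · rw [hd] at hle hkx
    rcases S.kc_cases hx with ⟨-, h⟩ | ⟨-, h⟩ | ⟨-, h⟩ | ⟨-, h⟩ <;> rw [h] at hkx
    · have := Nat.dvd_antisymm hle (h ▸ kc_dvd_dq x)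
      exact Or.inl ⟨this.trans h.symm, Or.inl this⟩
    · exact absurd hkx S.not_a_dvd_q
    · exact absurd hkx S.not_b_dvd_q
    · exact absurd hkx (co S.qeb heb1)
  · rw [hd] at hle hkx
    rcases S.kc_cases hx with ⟨-, h⟩ | ⟨-, h⟩ | ⟨-, h⟩ | ⟨-, h⟩ <;> rw [h] at hkx
    · exact absurd hkx (co S.haq hq1)
    · have := Nat.dvd_antisymm hle (h ▸ kc_dvd_dq x)
      exact Or.inl ⟨this.trans h.symm, Or.inr (Or.inl this)⟩
    · exact absurd hkx S.not_b_dvd_a
    · exact absurd ((Dvd.intro_left e rfl).trans hkx) S.not_b_dvd_a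
  · have hkd := kc_dvd_dq x
    have hle' := hle.trans hd
    have hkx' := hkx.trans hd
    rcases S.kc_cases hx with ⟨-, h⟩ | ⟨-, h⟩ | ⟨-, h⟩ | ⟨-, h⟩ <;> rw [h] at hkx' hkd
    · exact absurd hkx' (co S.qeb.symm hq1)
    · exact absurd hkx' S.not_a_dvd_eb
    · obtain ⟨c, hc⟩ := hkd
      rw [hc, mul_comm e b, Nat.mul_dvd_mul_iff_left (by have := S.hb; omega)] at hle'
      rcases (Nat.dvd_prime Nat.prime_two).1 (hle'.trans (by
        rcases S.he with ⟨h', -⟩ | ⟨h', -⟩ <;> subst h'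
        exacts [one_dvd 2, dvd_rfl] : e ∣ 2)) with rfl | rfl
      · rw [mul_one] at hc
        exact Or.inl ⟨hc.trans h.symm, Or.inr (Or.inr (Or.inl hc))⟩
      · have he2 : e = 2 := le_antisymm S.e_le (Nat.le_of_dvd S.e_pos hle')
        exact Or.inr ⟨h, by rw [hc, he2, mul_comm]⟩
    · have := Nat.dvd_antisymm hle' hkd
      exact Or.inl ⟨this.trans h.symm, Or.inr (Or.inr (Or.inr this))⟩

theorem dq_mem {x : G} (hx : x ∉ center G) : dq x = q ∨ dq x = a ∨ dq x = b ∨ dq x = e * b := by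
  rcases S.dq_cases hx with ⟨-, h⟩ | ⟨-, h⟩
  exacts [h, Or.inr (Or.inr (Or.inr h))]

/-- the centralizer orders of the quotient -/
theorem cent_quot (x : G ⧸ center G) (hx : x ≠ 1) :
    Nat.card (centralizer ({x} : Set (G ⧸ center G))) = q ∨
    Nat.card (centralizer ({x} : Set (G ⧸ center G))) = a ∨
    Nat.card (centralizer ({x} : Set (G ⧸ center G))) = b ∨
    Nat.card (centralizer ({x} : Set (G ⧸ center G))) = e * b := by
  obtain ⟨g, rfl⟩ := QuotientGroup.mk_surjective x
  exact S.dq_mem fun h => hx ((QuotientGroup.eq_one_iff g).2 h)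

/-- If the elements of centralizer order `e * b` in the quotient form a single class, commuting
images come from commuting elements. -/
theorem commute_of_quot (hconj : ∀ x y : G ⧸ center G, x ≠ 1 → y ≠ 1 →
      Nat.card (centralizer ({x} : Set (G ⧸ center G))) = e * b →
      Nat.card (centralizer ({y} : Set (G ⧸ center G))) = e * b → e = 2 → IsConj x y)
    {x y : G} (h : Commute (x : G ⧸ center G) (y : G ⧸ center G)) : Commute x y := by
  by_cases hx : x ∈ center G
  · exact (mem_center_iff.1 hx y).symm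
  suffices hd : dq x = kc x by
    have : y ∈ cstar x := mem_comap.2 (mem_centralizer_singleton_iff.2 h.symm.eq)
    rw [cstar_eq_cent hd] at this
    exact H27.mem_cent_comm.1 this
  rcases S.dq_cases hx with ⟨hd, -⟩ | ⟨hk, hd⟩
  · exact hd
  · by_contra hne
    have he : e = 2 := by
      rcases S.he with ⟨h', -⟩ | ⟨h', -⟩
      · exact absurd (by rw [hk, hd, h', one_mul]) hne
      · exact h'
    obtain ⟨w, hwZ, hw⟩ := S.exists_of_size (Or.inr (Or.inr (Or.inr rfl)))
    have hwd : dq w = kc w := by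
      rcases S.dq_cases hwZ with ⟨h', -⟩ | ⟨h', -⟩
      · exact h'
      · exfalso
        have h1 := (kc_mul_cs w).trans S.index_center
        rw [h', hw, he, show 2 * a * b * q = 2 * (b * (q * a)) by ring] at h1
        have : 0 < b * (q * a) := Nat.mul_pos (by have := S.hb; omega)
          (Nat.mul_pos (by have := S.q2; omega) (by have := S.ha; omega))
        omega
    have hwk : kc w = e * b := by
      rcases S.kc_cases hwZ with ⟨h', -⟩ | ⟨h', -⟩ | ⟨h', -⟩ | ⟨-, h'⟩
      · exact (S.not_u_dvd (Or.inr (Or.inr rfl)) (hw ▸ dvd_of_eq h'.symm)).elim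
      · exact (S.not_A_dvd (Or.inr (Or.inr rfl)) (hw ▸ dvd_of_eq h'.symm)).elim
      · exfalso
        rw [hw, he] at h'
        have : 0 < q * a := Nat.mul_pos (by have := S.q2; omega) (by have := S.ha; omega)
        rw [mul_assoc] at h'
        omega
      · exact h'
    obtain ⟨c, hc⟩ := isConj_iff.1 (hconj (w : G ⧸ center G) (x : G ⧸ center G)
      (fun h1 => hwZ ((QuotientGroup.eq_one_iff w).1 h1))
      (fun h1 => hx ((QuotientGroup.eq_one_iff x).1 h1)) (hwd.trans hwk) hd he)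
    obtain ⟨g, rfl⟩ := QuotientGroup.mk_surjective c
    rw [← QuotientGroup.mk_inv, ← QuotientGroup.mk_mul, ← QuotientGroup.mk_mul,
      QuotientGroup.eq] at hc
    have hxw : cs x = cs w := by
      rw [show x = g * w * g⁻¹ * ((g * w * g⁻¹)⁻¹ * x) by group]
      simp only [cs, cent_mul_central hc]
      exact H27.index_cent_conj g w
    refine hne (Nat.eq_of_mul_eq_mul_right (H27.cent_pos x) ?_)
    rw [kc_mul_cs, hd, ← hwk, show (centralizer ({x} : Set G)).index = cs w from hxw, kc_mul_cs]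

end Sizes

end H10.ClassSize
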