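import Cfsg.Agent.H10.ClassSize.Sizes

/-!
A group with the class sizes of `PSL₂(q)`: the centre has index `#PSL₂(q)` and the centralizer
orders in the central quotient are those of `PSL₂(q)`.
-/

set_option autoImplicit false

namespace H10.ClassSize

open Subgroup

set_option linter.unusedSectionVars false
set_option linter.style.haveILetI false

variable {G : Type*} [Group G] [Finite G]

/-- the order of `C(x) / Z` -/
noncomputable abbrev kc (x : G) : ℕ := (center G).relIndex (centralizer ({x} : Set G))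

/-- the centralizer order in `G / Z` -/
noncomputable abbrev dq (x : G) : ℕ :=
  Nat.card (centralizer ({(x : G ⧸ center G)} : Set (G ⧸ center G)))

theorem exists_order {r : ℕ} [Fact r.Prime] {H : Subgroup G} (hH : IsPGroup r H) {x : G}
    (hx : x ∈ H) : ∃ j, orderOf x = r ^ j := by
  obtain ⟨j, hj⟩ := IsPGroup.iff_orderOf.1 hH ⟨x, hx⟩
  exact ⟨j, by rw [← hj, orderOf_mk]⟩

theorem center_le_cent (x : G) : center G ≤ centralizer ({x} : Set G) := center_le_centralizer _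

theorem kc_mul_cs (x : G) : kc x * cs x = (center G).index :=
  relIndex_mul_index (center_le_cent x)

theorem orderOf_coprime_of_primes {r s : ℕ} (hr : r.Prime) (hs : s.Prime) (hne : r ≠ s) {x y : G}
    (hx : ∃ j, orderOf x = r ^ j) (hy : ∃ j, orderOf y = s ^ j) :
    (orderOf x).Coprime (orderOf y) := by
  obtain ⟨i, hi⟩ := hx
  obtain ⟨j, hj⟩ := hy
  rw [hi, hj]
  exact Nat.Coprime.pow i j ((Nat.coprime_primes hr hs).2 hne)

theorem exists_pEl_of_dvd_relIndex {r : ℕ} [Fact r.Prime] {H : Subgroup G}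
    (h : r ∣ (center G).relIndex H) : ∃ y ∈ H, y ∉ center G ∧ ∃ j, orderOf y = r ^ j := by
  rw [relIndex, index] at h
  obtain ⟨a, ha⟩ := exists_prime_orderOf_dvd_card' r h
  obtain ⟨x, hxa, j, hj⟩ := H27.exists_lift_pElement ((center G).subgroupOf H) (k := 1)
    (by rwa [pow_one] : orderOf a = r ^ 1)
  refine ⟨x, x.2, fun hc => ?_, j, by rw [orderOf_coe, hj]⟩
  have h1 : (x : H ⧸ (center G).subgroupOf H) = 1 := (QuotientGroup.eq_one_iff x).2 hc
  rw [hxa] at h1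
  rw [h1, orderOf_one] at ha
  exact (Fact.out : r.Prime).ne_one ha.symm

theorem dvd_relIndex_of_pEl {r : ℕ} [Fact r.Prime] {H : Subgroup G} {y : G} (hy : y ∈ H)
    (hyc : y ∉ center G) (hj : ∃ j, orderOf y = r ^ j) : r ∣ (center G).relIndex H := by
  obtain ⟨j, hj⟩ := hj
  have h0 := orderOf_map_dvd (QuotientGroup.mk' ((center G).subgroupOf H)) (⟨y, hy⟩ : H)
  rw [orderOf_mk, hj] at h0
  obtain ⟨i, -, hi⟩ := (Nat.dvd_prime_pow (Fact.out : r.Prime)).1 h0
  have hi0 : i ≠ 0 := by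
    rintro rfl
    rw [pow_zero, orderOf_eq_one_iff] at hi
    exact hyc ((QuotientGroup.eq_one_iff (⟨y, hy⟩ : H)).1 hi)
  refine (dvd_pow_self r hi0).trans ?_
  rw [relIndex, index, ← hi]
  exact orderOf_dvd_natCard _

namespace Sizes

variable {p q e a b : ℕ} (S : Sizes G p q e a b)

include S

theorem exists_central_u [Fact p.Prime] (P : Sylow p G) :
    ∃ z ∈ (P : Subgroup G), z ∈ centralizer ((P : Subgroup G) : Set G) ∧ z ∉ center G ∧
      cs z = e * a * b := by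
  rcases S.exists_prime_to P (Or.inl rfl) S.p_not_dvd_u with ⟨w, hw, hwc, hwZ, hd⟩ | ⟨x, hxc, hxZ, hxu, hxo⟩
  · exact ⟨w, hw, hwc, hwZ, S.eq_u_of_dvd hwZ hd⟩
  · obtain ⟨w, hw, hwZ⟩ := SetLike.not_le_iff_exists.1
      (S.sylow_not_le_center (S.p_dvd.mul_left _) P)
    obtain ⟨j, hj⟩ := exists_order P.isPGroup' hw
    have hcm : Commute x w := (mem_centralizer_iff.1 hxc w hw).symm
    have hco : (orderOf x).Coprime (orderOf w) := (H27.coprime_parts p ⟨j, hj⟩ hxo).symm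
    have hu := S.eq_u_of_u_dvd (mul_not_mem hwZ hcm hco) (hxu ▸ H27.index_left_dvd_mul hcm hco)
    have hle := cent_eq_of_cs_eq hcm hco (hu.trans hxu.symm)
    refine ⟨w, hw, ?_, hwZ, S.eq_u_of_dvd hwZ (hu ▸ H27.index_right_dvd_mul hcm hco)⟩
    exact H27.le_cent_iff.1 ((H27.le_cent_iff.2 hxc).trans hle)

theorem not_dvd_u_prime {r : ℕ} [Fact r.Prime] (hrp : r ≠ p) {y : G}
    (hy : ∃ j, orderOf y = r ^ j) (hyZ : y ∉ center G) : cs y ≠ e * a * b := by
  have hr : r.Prime := Fact.out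
  haveI : Fact p.Prime := ⟨S.hp⟩
  intro hu
  obtain ⟨j, hj⟩ := hy
  obtain ⟨R, hR⟩ := (IsPGroup.of_card (p := r) (G := zpowers y) (n := j)
    (by rw [Nat.card_zpowers, hj])).exists_le_sylow
  have hyR : y ∈ (R : Subgroup G) := hR (mem_zpowers y)
  have hrn : r ∣ e * a * b * q := by
    by_contra h
    exact hyZ (S.central_of_not_dvd h R hyR)
  have hrq : ¬ r ∣ q := fun h => hrp (S.eq_p_of_dvd hr h)
  have hru : r ∣ e * a * b := (hr.dvd_mul.1 hrn).resolve_right hrq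
  have hpu : ¬ p ∣ cs y := hu ▸ S.p_not_dvd_u
  obtain ⟨P, hP⟩ := H27.not_dvd_index_cent_iff.1 hpu
  obtain ⟨z, hzP, -, hzZ, hzu⟩ := S.exists_central_u P
  obtain ⟨i, hi⟩ := exists_order P.isPGroup' hzP
  have hyz : Commute y z := (mem_centralizer_iff.1 hP z hzP).symm
  have hco : (orderOf y).Coprime (orderOf z) :=
    orderOf_coprime_of_primes hr S.hp hrp ⟨j, hj⟩ ⟨i, hi⟩
  have hmu := S.eq_u_of_u_dvd (mul_not_mem hzZ hyz hco) (hu ▸ H27.index_left_dvd_mul hyz hco)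
  have hyz' := cent_eq_of_cs_eq hyz hco (hmu.trans hu.symm)
  obtain ⟨s, hs, hrs⟩ : ∃ s, (s = e * q * b ∨ s = e * q * a ∨ s = q * a) ∧ ¬ r ∣ s := by
    by_cases h1 : r ∣ e * q * b
    · refine ⟨q * a, Or.inr (Or.inr rfl), fun h2 => ?_⟩
      have hra : r ∣ a := (hr.dvd_mul.1 h2).resolve_left hrq
      have : r ∣ e * b := by
        rw [show e * q * b = (e * b) * q by ring] at h1
        exact (hr.dvd_mul.1 h1).resolve_right hrq
      exact hr.ne_one (Nat.eq_one_of_dvd_coprimes S.aeb hra this)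
    · exact ⟨_, Or.inl rfl, h1⟩
  rcases S.exists_prime_to R (Or.inr hs) hrs with ⟨w, hw, hwc, hwZ, -⟩ | ⟨x, hxc, hxZ, hxs, hxo⟩
  · have hyw : w ∈ centralizer ({y} : Set G) :=
      H27.mem_cent_comm.2 (mem_centralizer_iff.1 hwc y hyR)
    have hzw : Commute z w := H27.mem_cent_comm.1 (hyz' hyw)
    obtain ⟨k, hk⟩ := exists_order R.isPGroup' hw
    have hco' : (orderOf z).Coprime (orderOf w) :=
      orderOf_coprime_of_primes S.hp hr (Ne.symm hrp) ⟨i, hi⟩ ⟨k, hk⟩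
    have h1 := S.eq_u_of_u_dvd (mul_not_mem hwZ hzw hco') (hzu ▸ H27.index_left_dvd_mul hzw hco')
    have h2 := S.eq_u_of_dvd hwZ (h1 ▸ H27.index_right_dvd_mul hzw hco')
    exact R.not_dvd_index ((hru.trans (dvd_of_eq h2.symm)).trans
      (index_dvd_of_le (H27.le_cent_iff.2 hwc)))
  · have hcm : Commute y x := mem_centralizer_iff.1 hxc y hyR
    have hco' : (orderOf y).Coprime (orderOf x) := H27.coprime_parts r ⟨j, hj⟩ hxo
    have h1 := S.eq_u_of_u_dvd (mul_not_mem hxZ hcm hco') (hu ▸ H27.index_left_dvd_mul hcm hco')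
    exact S.not_dvd_u hs (hxs ▸ h1 ▸ H27.index_right_dvd_mul hcm hco')

theorem exists_A_element : ∃ (r : ℕ) (_ : Fact r.Prime), r ≠ p ∧ r ∣ a ∧
    ∃ w : G, w ∉ center G ∧ (∃ j, orderOf w = r ^ j) ∧ cs w = e * q * b := by
  obtain ⟨r, hr, hra⟩ := Nat.exists_prime_and_dvd (n := a) (by have := S.ha; omega)
  haveI : Fact r.Prime := ⟨hr⟩
  have hrs : ¬ r ∣ e * q * b := by
    rw [show e * q * b = (e * b) * q by ring]
    intro h
    rcases hr.dvd_mul.1 h with h | h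
    · exact hr.ne_one (Nat.eq_one_of_dvd_coprimes S.aeb hra h)
    · exact hr.ne_one (Nat.eq_one_of_dvd_coprimes S.haq hra h)
  have hrp : r ≠ p := fun h => hr.ne_one (Nat.eq_one_of_dvd_coprimes S.haq hra (h ▸ S.p_dvd))
  obtain ⟨R⟩ : Nonempty (Sylow r G) := inferInstance
  refine ⟨r, ‹_›, hrp, hra, ?_⟩
  rcases S.exists_prime_to R (Or.inr (Or.inl rfl)) hrs with ⟨w, hw, -, hwZ, hd⟩ | ⟨x, hxc, hxZ, hxs, hxo⟩
  · exact ⟨w, hwZ, exists_order R.isPGroup' hw, S.eq_A_of_dvd hwZ hd⟩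
  · obtain ⟨w, hw, hwZ⟩ := SetLike.not_le_iff_exists.1
      (S.sylow_not_le_center ((hra.mul_left e).mul_right b |>.mul_right q) R)
    obtain ⟨k, hk⟩ := exists_order R.isPGroup' hw
    have hcm : Commute x w := (mem_centralizer_iff.1 hxc w hw).symm
    have hco : (orderOf x).Coprime (orderOf w) := (H27.coprime_parts r ⟨k, hk⟩ hxo).symm
    have hA := S.eq_A_of_A_dvd (mul_not_mem hwZ hcm hco) (hxs ▸ H27.index_left_dvd_mul hcm hco)
    exact ⟨w, hwZ, ⟨k, hk⟩, S.eq_A_of_dvd hwZ (hA ▸ H27.index_right_dvd_mul hcm hco)⟩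

theorem index_center : (center G).index = e * a * b * q := by
  haveI : Fact p.Prime := ⟨S.hp⟩
  obtain ⟨P₀⟩ : Nonempty (Sylow p G) := inferInstance
  obtain ⟨z, hzP, -, hzZ, hzu⟩ := S.exists_central_u P₀
  obtain ⟨i, hi⟩ := exists_order P₀.isPGroup' hzP
  have hz : ∀ {r : ℕ}, r.Prime → r ∣ kc z → r = p := by
    intro r hr hd
    by_contra hrp
    haveI : Fact r.Prime := ⟨hr⟩
    obtain ⟨y, hyC, hyZ, hy⟩ := exists_pEl_of_dvd_relIndex hd
    have hcm : Commute z y := H27.mem_cent_comm.1 hyC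
    have hco : (orderOf z).Coprime (orderOf y) :=
      orderOf_coprime_of_primes S.hp hr (Ne.symm hrp) ⟨i, hi⟩ hy
    have h1 := S.eq_u_of_u_dvd (mul_not_mem hyZ hcm hco) (hzu ▸ H27.index_left_dvd_mul hcm hco)
    exact S.not_dvd_u_prime hrp hy hyZ (S.eq_u_of_dvd hyZ (h1 ▸ H27.index_right_dvd_mul hcm hco))
  have hk0 : kc z ≠ 0 := fun h => index_ne_zero_of_finite (H := center G)
    (by rw [← kc_mul_cs z, h, zero_mul])
  have hpm := Nat.eq_prime_pow_of_unique_prime_dvd hk0 hz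
  obtain ⟨r, hr, hrp, hra, w, hwZ, hwo, hwA⟩ := S.exists_A_element
  have hw : ¬ p ∣ kc w := by
    intro hd
    obtain ⟨v, hvC, hvZ, k, hk⟩ := exists_pEl_of_dvd_relIndex hd
    have hcm : Commute w v := H27.mem_cent_comm.1 hvC
    have hco : (orderOf w).Coprime (orderOf v) :=
      orderOf_coprime_of_primes hr.out S.hp hrp hwo ⟨k, hk⟩
    have h1 := S.eq_A_of_A_dvd (mul_not_mem hvZ hcm hco) (hwA ▸ H27.index_left_dvd_mul hcm hco)
    have hv := S.eq_A_of_dvd hvZ (h1 ▸ H27.index_right_dvd_mul hcm hco)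
    have hvw : centralizer ({v} : Set G) ≤ centralizer ({w} : Set G) :=
      cent_eq_of_cs_eq hcm.symm hco.symm ((hcm.eq ▸ h1 : cs (v * w) = _).trans hv.symm)
    obtain ⟨P, hP⟩ := (IsPGroup.of_card (p := p) (G := zpowers v) (n := k)
      (by rw [Nat.card_zpowers, hk])).exists_le_sylow
    obtain ⟨z', hz'P, hz'c, hz'Z, hz'u⟩ := S.exists_central_u P
    have hwz : Commute w z' := H27.mem_cent_comm.1 (hvw (H27.mem_cent_comm.2
      (mem_centralizer_iff.1 hz'c v (hP (mem_zpowers v)))))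
    have hco' : (orderOf w).Coprime (orderOf z') :=
      orderOf_coprime_of_primes hr.out S.hp hrp hwo (exists_order P.isPGroup' hz'P)
    have h2 := S.eq_A_of_A_dvd (mul_not_mem hz'Z hwz hco') (hwA ▸ H27.index_left_dvd_mul hwz hco')
    exact S.not_u_dvd (Or.inl rfl) (hz'u ▸ h2 ▸ H27.index_right_dvd_mul hwz hco')
  have hn := (kc_mul_cs w).trans (kc_mul_cs z).symm
  rw [hwA, hzu] at hn
  set m := (kc z).primeFactorsList.length
  have h3 : q * kc w = a * p ^ m := by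
    have hpos : 0 < e * b := Nat.mul_pos S.e_pos (by have := S.hb; omega)
    refine Nat.eq_of_mul_eq_mul_left hpos ?_
    rw [← hpm]
    linarith [hn]
  have hq : q ∣ p ^ m := S.haq.symm.dvd_of_dvd_mul_left ⟨kc w, h3.symm⟩
  have hq' : p ^ m ∣ q :=
    ((S.hp.coprime_iff_not_dvd.2 hw).pow_left m).dvd_of_dvd_mul_right ⟨a, by rw [h3, mul_comm]⟩
  rw [← kc_mul_cs z, hzu, hpm, Nat.dvd_antisymm hq' hq, mul_comm]

theorem kc_cases {x : G} (hx : x ∉ center G) :
    (cs x = e * a * b ∧ kc x = q) ∨ (cs x = e * q * b ∧ kc x = a) ∨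
      (cs x = e * q * a ∧ kc x = b) ∨ (cs x = q * a ∧ kc x = e * b) := by
  have h := (kc_mul_cs x).trans S.index_center
  have hpos : 0 < cs x := H27.cent_pos x
  rcases (S.cases x).resolve_left hx with e' | e' | e' | e' <;> rw [e'] at h hpos
  · exact Or.inl ⟨e', Nat.eq_of_mul_eq_mul_right hpos (h.trans (by ring))⟩
  · exact Or.inr (Or.inl ⟨e', Nat.eq_of_mul_eq_mul_right hpos (h.trans (by ring))⟩)
  · exact Or.inr (Or.inr (Or.inl ⟨e', Nat.eq_of_mul_eq_mul_right hpos (h.trans (by ring))⟩))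
  · exact Or.inr (Or.inr (Or.inr ⟨e', Nat.eq_of_mul_eq_mul_right hpos (h.trans (by ring))⟩))

end Sizes

end H10.ClassSize
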