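import Cfsg.Agent.H10.ClassSize.Params
import Cfsg.Agent.H27.SameClassSizes
import Cfsg.Agent.H27.ConjUnion

/-!
A group with the class sizes of `PSL₂(q)`: no noncentral `r`-element, `r ≠ p`, has the class size
prime to `p`.
-/

set_option autoImplicit false

namespace H10.ClassSize

open Subgroup

variable {G : Type*} [Group G]

/-- class size -/
noncomputable abbrev cs (x : G) : ℕ := (centralizer ({x} : Set G)).index

/-- The class sizes of `G` are those of `PSL₂(q)`. -/
structure Sizes (G : Type*) [Group G] (p q e a b : ℕ) : Prop extends Params p q e a b where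
  h : Set.range (cs (G := G)) = {1, e * a * b, e * q * b, e * q * a, q * a}

theorem eq_of_index_eq [Finite G] {H K : Subgroup G} (h : H ≤ K) (hi : H.index = K.index) :
    H = K := by
  rcases h.eq_or_lt with e | e
  · exact e
  · exact absurd hi (index_strictAnti e).ne'

theorem cs_eq_one_iff {x : G} : cs x = 1 ↔ x ∈ center G := H27.index_cent_eq_one_iff

theorem cent_mul_central {x z : G} (hz : z ∈ center G) :
    centralizer ({x * z} : Set G) = centralizer ({x} : Set G) := by
  ext g
  rw [mem_centralizer_singleton_iff, mem_centralizer_singleton_iff,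
    ← mul_assoc, mul_assoc x z g, ← mem_center_iff.1 hz g, ← mul_assoc, mul_left_inj]

theorem cent_central_mul {x z : G} (hz : z ∈ center G) :
    centralizer ({z * x} : Set G) = centralizer ({x} : Set G) := by
  rw [← mem_center_iff.1 hz x, cent_mul_central hz]

theorem mul_not_mem [Finite G] {x y : G} (hy : y ∉ center G) (hxy : Commute x y)
    (hco : (orderOf x).Coprime (orderOf y)) : x * y ∉ center G := fun h => hy (by
  rw [← cs_eq_one_iff] at h ⊢
  exact Nat.dvd_one.1 (h ▸ H27.index_right_dvd_mul hxy hco))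

theorem cent_eq_of_cs_eq [Finite G] {x y : G} (hxy : Commute x y)
    (hco : (orderOf x).Coprime (orderOf y)) (h : cs (x * y) = cs x) :
    centralizer ({x} : Set G) ≤ centralizer ({y} : Set G) :=
  (eq_of_index_eq (H27.cent_mul_le_left hxy hco) h).ge.trans (H27.cent_mul_le_right hxy hco)

namespace Sizes

variable {p q e a b : ℕ} (S : Sizes G p q e a b)

include S

theorem cases (x : G) : x ∈ center G ∨ cs x = e * a * b ∨ cs x = e * q * b ∨ cs x = e * q * a ∨
    cs x = q * a := by
  have h : cs x ∈ Set.range (cs (G := G)) := ⟨x, rfl⟩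
  rw [S.h] at h
  simp only [Set.mem_insert_iff, Set.mem_singleton_iff] at h
  rcases h with h | h
  · exact Or.inl (cs_eq_one_iff.1 h)
  · exact Or.inr h

theorem exists_of_size {m : ℕ} (hm : m = e * a * b ∨ m = e * q * b ∨ m = e * q * a ∨ m = q * a) :
    ∃ x : G, x ∉ center G ∧ cs x = m := by
  have h : m ∈ Set.range (cs (G := G)) := by
    rw [S.h]
    simp only [Set.mem_insert_iff, Set.mem_singleton_iff]
    exact Or.inr hm
  obtain ⟨x, hx⟩ := h
  refine ⟨x, fun hc => ?_, hx⟩
  rw [cs_eq_one_iff.2 hc] at hx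
  rcases hm with rfl | rfl | rfl | rfl
  exacts [S.u_ne_one hx.symm, S.A_ne_one hx.symm, S.B_ne_one hx.symm, S.i_ne_one hx.symm]

theorem eq_u_of_dvd {x : G} (hx : x ∉ center G) (h : cs x ∣ e * a * b) : cs x = e * a * b := by
  rcases (S.cases x).resolve_left hx with e' | e' | e' | e' <;> rw [e'] at h ⊢
  exacts [(S.not_dvd_u (Or.inl rfl) h).elim, (S.not_dvd_u (Or.inr (Or.inl rfl)) h).elim,
    (S.not_dvd_u (Or.inr (Or.inr rfl)) h).elim]

theorem eq_u_of_u_dvd {x : G} (hx : x ∉ center G) (h : e * a * b ∣ cs x) : cs x = e * a * b := by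
  rcases (S.cases x).resolve_left hx with e' | e' | e' | e' <;> rw [e'] at h ⊢
  exacts [(S.not_u_dvd (Or.inl rfl) h).elim, (S.not_u_dvd (Or.inr (Or.inl rfl)) h).elim,
    (S.not_u_dvd (Or.inr (Or.inr rfl)) h).elim]

theorem eq_A_of_dvd {x : G} (hx : x ∉ center G) (h : cs x ∣ e * q * b) : cs x = e * q * b := by
  rcases (S.cases x).resolve_left hx with e' | e' | e' | e' <;> rw [e'] at h ⊢
  exacts [(S.not_dvd_A (Or.inl rfl) h).elim, (S.not_dvd_A (Or.inr (Or.inl rfl)) h).elim,
    (S.not_dvd_A (Or.inr (Or.inr rfl)) h).elim]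

theorem eq_A_of_A_dvd {x : G} (hx : x ∉ center G) (h : e * q * b ∣ cs x) : cs x = e * q * b := by
  rcases (S.cases x).resolve_left hx with e' | e' | e' | e' <;> rw [e'] at h ⊢
  exacts [(S.not_A_dvd (Or.inl rfl) h).elim, (S.not_A_dvd (Or.inr (Or.inl rfl)) h).elim,
    (S.not_A_dvd (Or.inr (Or.inr rfl)) h).elim]

theorem eq_B_of_B_dvd {x : G} (hx : x ∉ center G) (h : e * q * a ∣ cs x) : cs x = e * q * a := by
  rcases (S.cases x).resolve_left hx with e' | e' | e' | e' <;> rw [e'] at h ⊢
  · exact (S.not_B_dvd (Or.inl rfl) h).elim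
  · exact (S.not_B_dvd (Or.inr rfl) h).elim
  · exact Nat.dvd_antisymm (Dvd.intro_left e (by ring)) h

theorem i_or_B_of_i_dvd {x : G} (hx : x ∉ center G) (h : q * a ∣ cs x) :
    cs x = e * q * a ∨ cs x = q * a := by
  rcases (S.cases x).resolve_left hx with e' | e' | e' | e' <;> rw [e'] at h ⊢
  exacts [(S.not_i_dvd (Or.inl rfl) h).elim, (S.not_i_dvd (Or.inr rfl) h).elim, Or.inl rfl,
    Or.inr rfl]

theorem i_or_B_of_dvd_B {x : G} (hx : x ∉ center G) (h : cs x ∣ e * q * a) :
    cs x = e * q * a ∨ cs x = q * a := by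
  rcases (S.cases x).resolve_left hx with e' | e' | e' | e' <;> rw [e'] at h ⊢
  · exact (S.not_u_dvd (Or.inr (Or.inl rfl)) h).elim
  · exact (S.not_A_dvd (Or.inr (Or.inl rfl)) h).elim
  · exact Or.inl rfl
  · exact Or.inr rfl

variable [Finite G]

/-- the `r`-elements are central when `r` does not divide the class sizes -/
theorem central_of_not_dvd {r : ℕ} [Fact r.Prime] (hr : ¬ r ∣ e * a * b * q) (R : Sylow r G) :
    (R : Subgroup G) ≤ center G := by
  refine H27.sylow_le_center_of_forall_not_dvd R fun x hx => ?_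
  rcases S.cases x with h | h
  · rw [show (centralizer ({x} : Set G)).index = 1 from cs_eq_one_iff.2 h] at hx
    exact (Fact.out : r.Prime).ne_one (Nat.dvd_one.1 hx)
  · refine hr (hx.trans ?_)
    change cs x ∣ _
    rcases h with h | h | h | h <;> rw [h]
    exacts [dvd_mul_right _ _, ⟨a, by ring⟩, ⟨b, by ring⟩, ⟨e * b, by ring⟩]

theorem sylow_not_le_center {r : ℕ} [Fact r.Prime] (hr : r ∣ e * a * b * q) (R : Sylow r G) :
    ¬ (R : Subgroup G) ≤ center G := by
  intro hR
  have hall : ∀ x : G, ¬ r ∣ cs x := fun x hx => R.not_dvd_index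
    (hx.trans (index_dvd_of_le (hR.trans (center_le_centralizer _))))
  have hr' : r ∣ e * a * b ∨ r ∣ q := (Nat.Prime.dvd_mul Fact.out).1 hr
  rcases hr' with h | h
  · obtain ⟨x, -, hx⟩ := S.exists_of_size (Or.inl rfl)
    exact hall x (hx ▸ h)
  · obtain ⟨x, -, hx⟩ := S.exists_of_size (Or.inr (Or.inl rfl))
    exact hall x (hx ▸ (h.mul_left e).mul_right b)

/-- For a size prime to `r`, an `r'`-element with a Sylow `r`-subgroup in its centralizer. -/
theorem exists_prime_to {r : ℕ} [Fact r.Prime] (R : Sylow r G) {s : ℕ}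
    (hs : s = e * a * b ∨ s = e * q * b ∨ s = e * q * a ∨ s = q * a) (hrs : ¬ r ∣ s) :
    (∃ w ∈ (R : Subgroup G), w ∈ centralizer ((R : Subgroup G) : Set G) ∧ w ∉ center G ∧
      cs w ∣ s) ∨
    ∃ x : G, x ∈ centralizer ((R : Subgroup G) : Set G) ∧ x ∉ center G ∧ cs x = s ∧
      ¬ r ∣ orderOf x := by
  obtain ⟨x, hx, hxs⟩ := S.exists_of_size hs
  obtain ⟨g, hg⟩ := H27.exists_smul_centralizer R (x := x) (by rwa [← hxs] at hrs)
  set y := g⁻¹ * x * g with hy
  have hys : cs y = s := by
    rw [← hxs, hy]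
    simpa using H27.index_cent_conj g⁻¹ x
  have hyc : y ∉ center G := fun h => by
    rw [cs_eq_one_iff.2 h] at hys
    exact hx (cs_eq_one_iff.1 (hxs.trans hys.symm))
  obtain ⟨h, k, hc, ⟨j, hj⟩, hk, hyk⟩ := H27.exists_pPart r y
  have hco := H27.coprime_parts r ⟨j, hj⟩ hk
  have hcen : ∀ t, centralizer ({y} : Set G) ≤ centralizer ({t} : Set G) →
      t ∈ centralizer ((R : Subgroup G) : Set G) := fun t ht =>
    H27.le_cent_iff.1 ((H27.le_cent_iff.2 hg).trans ht)
  by_cases hh : h ∈ center G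
  · refine Or.inr ⟨k, hcen k (by rw [hyk]; exact H27.cent_mul_le_right hc hco), fun hkc =>
      hyc (hyk ▸ mul_mem hh hkc), ?_, hk⟩
    rw [← hys, hyk]
    simp only [cs, cent_central_mul hh]
  · have hhR : h ∈ centralizer ((R : Subgroup G) : Set G) :=
      hcen h (by rw [hyk]; exact H27.cent_mul_le_left hc hco)
    refine Or.inl ⟨h, ?_, hhR, hh, ?_⟩
    · exact H27.mem_sylow_of_centralizes R ⟨j, hj⟩ hhR
    · rw [← hys, hyk]
      exact H27.index_left_dvd_mul hc hco

end Sizes

end H10.ClassSize
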