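import Mathlib
import Cfsg.Agent.H27.SolCount

/-!
Elements with a self-centralizing centralizer of odd order `a`, when every other centralizer order is
prime to `a` and the index is `2` modulo `a`.
-/

set_option autoImplicit false
set_option linter.unusedSectionVars false
set_option linter.style.haveILetI false

namespace H10.ClassSize

open Subgroup

variable {X : Type*} [Group X] [Fintype X] [DecidableEq X]

/-- centralizer order -/
noncomputable abbrev cc (x : X) : ℕ := Nat.card (centralizer ({x} : Set X))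

/-- the nontrivial elements with centralizer of order `c` -/
noncomputable def ofCent (X : Type*) [Group X] [Fintype X] [DecidableEq X] (c : ℕ) : Finset X :=
  Finset.univ.filter fun x => x ≠ 1 ∧ cc x = c

/-- involutions `s` with `s * x` an involution -/
noncomputable def invs (x : X) : Finset X :=
  Finset.univ.filter fun s => orderOf s = 2 ∧ orderOf (s * x) = 2

theorem mem_ofCent {c : ℕ} {x : X} : x ∈ ofCent X c ↔ x ≠ 1 ∧ cc x = c := by simp [ofCent]

theorem mem_invs {x s : X} : s ∈ invs x ↔ orderOf s = 2 ∧ orderOf (s * x) = 2 := by simp [invs]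

theorem mul_self_eq_one {s : X} (h : orderOf s = 2) : s * s = 1 := by
  rw [← pow_two, ← h, pow_orderOf_eq_one]

theorem inv_eq_self {s : X} (h : orderOf s = 2) : s⁻¹ = s := inv_eq_of_mul_eq_one_right (mul_self_eq_one h)

theorem conj_eq_inv_of_mem_invs {x s : X} (h : s ∈ invs x) : s * x * s⁻¹ = x⁻¹ := by
  rw [mem_invs] at h
  rw [inv_eq_self h.1]
  refine eq_inv_of_mul_eq_one_left ?_
  rw [mul_assoc, mul_self_eq_one h.2]

theorem cc_conj (g x : X) : cc (g * x * g⁻¹) = cc x := by
  have h1 := H27.card_cent_mul_index (g * x * g⁻¹)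
  have h2 := H27.card_cent_mul_index x
  rw [H27.index_cent_conj] at h1
  exact Nat.eq_of_mul_eq_mul_right (H27.cent_pos x) (h1.trans h2.symm)

theorem ofCent_conj {c : ℕ} (g : X) {y : X} (hy : y ∈ ofCent X c) : g * y * g⁻¹ ∈ ofCent X c := by
  rw [mem_ofCent] at hy ⊢
  exact ⟨fun h => hy.1 (conj_eq_one_iff.1 h), (cc_conj g y).trans hy.2⟩

theorem dvd_card_of_conj {m : ℕ} (T : Finset X) (hT : ∀ g : X, ∀ y ∈ T, g * y * g⁻¹ ∈ T)
    (h : ∀ y ∈ T, m ∣ (centralizer ({y} : Set X)).index) : m ∣ T.card := by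
  have := H27.dvd_sum_of_conj_invariant m T (fun _ => 1) hT (fun _ _ => rfl)
    (fun y hy => by rw [mul_one]; exact h y hy)
  simpa using this

theorem count_class {c m : ℕ} (hc : 0 < c) (hm : 0 < m) (hn : Nat.card X = c * m)
    (hcop : ∀ x : X, x ≠ 1 → cc x = c ∨ (cc x).Coprime c) :
    ∃ k, (ofCent X c).card = k * m ∧ c ∣ 1 + k * m ∧ k < c := by
  have hidx : ∀ y ∈ ofCent X c, (centralizer ({y} : Set X)).index = m := fun y hy => by
    have h := H27.card_cent_mul_index y
    rw [show Nat.card (centralizer ({y} : Set X)) = c from (mem_ofCent.1 hy).2, hn] at h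
    exact Nat.eq_of_mul_eq_mul_left hc h
  obtain ⟨k, hk⟩ := dvd_card_of_conj (ofCent X c) (fun g y hy => ofCent_conj g hy)
    (fun y hy => (hidx y hy).symm.dvd)
  rw [mul_comm] at hk
  set U := Finset.univ \ insert 1 (ofCent X c) with hU
  have h1 : (1 : X) ∉ ofCent X c := by simp [mem_ofCent]
  have hUcard : U.card + (1 + k * m) = c * m := by
    have h2 := Finset.card_sdiff_add_card_eq_card (Finset.subset_univ (insert 1 (ofCent X c)))
    rw [Finset.card_insert_of_notMem h1, hk, Finset.card_univ, ← Nat.card_eq_fintype_card, hn,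
      ← hU] at h2
    omega
  have hUdvd : c ∣ U.card := by
    refine dvd_card_of_conj U (fun g y hy => ?_) (fun y hy => ?_)
    · simp only [hU, Finset.mem_sdiff, Finset.mem_univ, true_and, Finset.mem_insert, not_or] at hy ⊢
      refine ⟨fun h => hy.1 (conj_eq_one_iff.1 h), fun h => hy.2 ?_⟩
      have := ofCent_conj g⁻¹ h
      simpa [mul_assoc] using this
    · simp only [hU, Finset.mem_sdiff, Finset.mem_univ, true_and, Finset.mem_insert, not_or,
        mem_ofCent, not_and] at hy
      have hc' := (hcop y hy.1).resolve_left (hy.2 hy.1)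
      refine hc'.symm.dvd_of_dvd_mul_left ?_
      rw [H27.card_cent_mul_index, hn]
      exact dvd_mul_right _ _
  refine ⟨k, hk, (Nat.dvd_add_right hUdvd).1 (hUcard ▸ dvd_mul_right c m), ?_⟩
  exact lt_of_mul_lt_mul_right (show k * m < c * m by omega) (Nat.zero_le _)

/-- The hypotheses on `a`. -/
structure TorusHyp (X : Type*) [Group X] (a m : ℕ) : Prop where
  ha : 1 < a
  odd : Odd a
  card : Nat.card X = a * m
  mod : ∃ t, m = a * t + 2
  cop : a.Coprime m
  cent : ∀ x : X, x ≠ 1 → cc x = a ∨ (cc x).Coprime a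

namespace TorusHyp

variable {a m : ℕ} (H : TorusHyp X a m)

include H

theorem m_pos : 0 < m := by obtain ⟨t, rfl⟩ := H.mod; omega

theorem count : 2 * (ofCent X a).card = (a - 1) * m := by
  obtain ⟨k, hk, hd, hlt⟩ := count_class (by have := H.ha; omega) H.m_pos H.card H.cent
  obtain ⟨t, ht⟩ := H.mod
  have h2 : a ∣ 1 + 2 * k := by
    rw [ht, show 1 + k * (a * t + 2) = a * (k * t) + (1 + 2 * k) by ring] at hd
    exact (Nat.dvd_add_right (dvd_mul_right _ _)).1 hd
  have hka : 2 * k = a - 1 := by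
    obtain ⟨c, hc⟩ := h2
    rcases c with _ | _ | c
    · omega
    · omega
    · have : a * 2 ≤ a * (c + 1 + 1) := Nat.mul_le_mul_left _ (by omega)
      omega
  rw [hk, ← mul_assoc, hka]

theorem cc_eq {x : X} (hx : x ≠ 1) {r : ℕ} (hr : r.Prime) (hra : r ∣ a) (hd : r ∣ cc x) :
    cc x = a :=
  (H.cent x hx).resolve_right fun hc => hr.ne_one (Nat.eq_one_of_dvd_coprimes hc hd hra)

theorem cc_eq_of_orderOf {x : X} {r : ℕ} (hr : r.Prime) (hra : r ∣ a) (hd : r ∣ orderOf x) :
    cc x = a := by
  refine H.cc_eq (fun h => hr.ne_one ?_) hr hra (hd.trans ?_)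
  · rw [h, orderOf_one] at hd
    exact Nat.dvd_one.1 hd
  · rw [← orderOf_mk x (H := centralizer ({x} : Set X)) (H27.mem_cent.2 rfl)]
    exact orderOf_dvd_natCard _

theorem cent_eq_of_commute {x y : X} {r s : ℕ} (hr : r.Prime) (hs : s.Prime)
    (hra : r ∣ a) (hsa : s ∣ a) (hx : r ∣ orderOf x) (hy : s ∣ orderOf y) (hxy : Commute x y)
    (hco : (orderOf x).Coprime (orderOf y)) :
    centralizer ({x} : Set X) = centralizer ({y} : Set X) := by
  have hm : cc (x * y) = a := H.cc_eq_of_orderOf hr hra (hx.trans (by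
    rw [hxy.orderOf_mul_eq_mul_orderOf_of_coprime hco]; exact dvd_mul_right _ _))
  have h1 := eq_of_le_of_card_ge (H27.cent_mul_le_left hxy hco)
    (by show cc x ≤ cc (x * y); rw [hm, H.cc_eq_of_orderOf hr hra hx])
  have h2 := eq_of_le_of_card_ge (H27.cent_mul_le_right hxy hco)
    (by show cc y ≤ cc (x * y); rw [hm, H.cc_eq_of_orderOf hs hsa hy])
  rw [← h1, h2]

theorem exists_fixed : ∃ (r : ℕ) (R : Sylow r X) (z : X), r.Prime ∧ r ∣ a ∧ r ∣ orderOf z ∧
    (∃ j, orderOf z = r ^ j) ∧ (R : Subgroup X) ≤ centralizer ({z} : Set X) := by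
  obtain ⟨r, hr, hra⟩ := Nat.exists_prime_and_dvd (n := a) (by have := H.ha; omega)
  haveI : Fact r.Prime := ⟨hr⟩
  obtain ⟨R⟩ : Nonempty (Sylow r X) := inferInstance
  have hne : (R : Subgroup X) ≠ ⊥ := R.ne_bot_of_dvd_card (H.card ▸ hra.mul_right m)
  haveI : Nontrivial (R : Subgroup X) := (nontrivial_iff_ne_bot _).2 hne
  haveI := R.isPGroup'.center_nontrivial
  obtain ⟨⟨z, hz⟩, hz1⟩ := exists_ne (1 : center (R : Subgroup X))
  obtain ⟨j, hj⟩ := IsPGroup.iff_orderOf.1 R.isPGroup' z
  rw [← orderOf_coe] at hj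
  refine ⟨r, R, (z : X), hr, hra, ?_, ⟨j, hj⟩, fun g hg => H27.mem_cent.2
    (congrArg Subtype.val (mem_center_iff.1 hz ⟨g, hg⟩))⟩
  rcases j with _ | j
  · exfalso
    rw [pow_zero, orderOf_eq_one_iff] at hj
    exact hz1 (Subtype.ext (Subtype.ext hj))
  · rw [hj]; exact dvd_pow_self r (by omega)

theorem exists_conj_cent {x : X} (hx : x ∈ ofCent X a) :
    ∀ y ∈ ofCent X a, ∃ g : X,
      centralizer ({y} : Set X) = (centralizer ({x} : Set X)).map (MulAut.conj g).toMonoidHom := by
  obtain ⟨r, R, z, hr, hra, hrz, hzr, hRz⟩ := H.exists_fixed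
  haveI : Fact r.Prime := ⟨hr⟩
  suffices key : ∀ y ∈ ofCent X a, ∃ g : X, centralizer ({y} : Set X) =
      (centralizer ({z} : Set X)).map (MulAut.conj g).toMonoidHom by
    intro y hy
    obtain ⟨g, hg⟩ := key y hy
    obtain ⟨h, hh⟩ := key x hx
    refine ⟨g * h⁻¹, ?_⟩
    rw [hg, hh, map_map]
    congr 1
    ext w
    simp [MulAut.conj_apply, mul_assoc]
  intro y hy
  obtain ⟨hy1, hya⟩ := mem_ofCent.1 hy
  obtain ⟨s, hs, hsy⟩ := Nat.exists_prime_and_dvd (fun h => hy1 (orderOf_eq_one_iff.1 h))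
  haveI : Fact s.Prime := ⟨hs⟩
  have hsa : s ∣ a := hya ▸ hsy.trans (by
    rw [← orderOf_mk y (H := centralizer ({y} : Set X)) (H27.mem_cent.2 rfl)]
    exact orderOf_dvd_natCard _)
  set w := y ^ (orderOf y / s) with hwdef
  have hw : orderOf w = s := orderOf_pow_orderOf_div (orderOf_pos y).ne' hsy
  have hwC : centralizer ({y} : Set X) = centralizer ({w} : Set X) :=
    eq_of_le_of_card_ge (H27.cent_le_cent_pow y _)
      (by show cc w ≤ cc y; rw [hya, H.cc_eq_of_orderOf hs hsa (hw ▸ dvd_rfl)])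
  have hza : cc z = a := H.cc_eq_of_orderOf hr hra hrz
  have hT : ¬ s ∣ (centralizer ({z} : Set X)).index := fun hd => by
    have h := H27.card_cent_mul_index z
    rw [show Nat.card (centralizer ({z} : Set X)) = a from hza, H.card] at h
    rw [Nat.eq_of_mul_eq_mul_left (by have := H.ha; omega) h] at hd
    exact hs.ne_one (Nat.eq_one_of_dvd_coprimes H.cop hsa hd)
  obtain ⟨P, hP⟩ := (IsPGroup.of_card (p := s) (G := zpowers w) (n := 1)
    (by rw [Nat.card_zpowers, hw, pow_one])).exists_le_sylow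
  obtain ⟨Q, hQ⟩ := H27.exists_sylow_le_of_not_dvd_index hT
  obtain ⟨g, hg⟩ := MulAction.exists_smul_eq X P Q
  set v := g * w * g⁻¹ with hvdef
  have hv : v ∈ centralizer ({z} : Set X) := hQ (by
    rw [← hg, Sylow.coe_subgroup_smul]
    exact Subgroup.mem_map_of_mem (MulAut.conj g).toMonoidHom (hP (mem_zpowers w)))
  have hvo : orderOf v = s := by
    rw [hvdef, ← hw]
    exact orderOf_injective (MulAut.conj g).toMonoidHom (MulAut.conj g).injective w
  obtain ⟨j, hj⟩ := hzr
  by_cases hcase : ∃ h : X, centralizer ({v} : Set X) =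
      (centralizer ({z} : Set X)).map (MulAut.conj h).toMonoidHom
  · obtain ⟨h, hh⟩ := hcase
    refine ⟨g⁻¹ * h, ?_⟩
    rw [hvdef, H27.cent_conj] at hh
    have := congrArg (Subgroup.map (MulAut.conj g⁻¹).toMonoidHom) hh
    rw [map_map, map_map] at this
    rw [hwC]
    convert this using 1
    · convert (map_id (centralizer ({w} : Set X))).symm using 2
      ext; simp [MulAut.conj_apply, mul_assoc]
    · congr 1
      ext; simp [MulAut.conj_apply, mul_assoc]
  exfalso
  apply hcase
  have hone : centralizer ({z} : Set X) =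
      (centralizer ({z} : Set X)).map (MulAut.conj (1 : X)).toMonoidHom := by
    convert (map_id _).symm using 2
    ext; simp
  have hzv : Commute z v := H27.mem_cent_comm.1 hv
  by_cases hsr : s = r
  swap
  · refine ⟨1, (H.cent_eq_of_commute hs hr hsa hra (hvo ▸ dvd_rfl) hrz hzv.symm ?_).trans hone⟩
    rw [hvo, hj]
    exact ((Nat.coprime_primes hs hr).2 hsr).pow_right _
  by_cases hall : ∀ t : ℕ, t.Prime → t ∣ a → t = r
  · have hak := Nat.eq_prime_pow_of_unique_prime_dvd (show a ≠ 0 by have := H.ha; omega)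
      (fun {d} hd hd' => hall d hd hd')
    have hidx : ∀ u : X, cc u = a → ¬ r ∣ (centralizer ({u} : Set X)).index := fun u hu hd => by
      have h := H27.card_cent_mul_index u
      rw [show Nat.card (centralizer ({u} : Set X)) = a from hu, H.card] at h
      rw [Nat.eq_of_mul_eq_mul_left (by have := H.ha; omega) h] at hd
      exact hr.ne_one (Nat.eq_one_of_dvd_coprimes H.cop hra hd)
    have hva : cc v = a := H.cc_eq_of_orderOf hs hsa (hvo ▸ dvd_rfl)
    have hsyl : ∀ u : X, cc u = a → ∃ P : Sylow r X, (P : Subgroup X) = centralizer ({u} : Set X) := by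
      intro u hu
      obtain ⟨P, hP⟩ := H27.exists_sylow_le_of_not_dvd_index (hidx u hu)
      exact ⟨P, (P.is_maximal' (IsPGroup.of_card (hu.trans hak)) hP).symm⟩
    obtain ⟨P₁, hP₁⟩ := hsyl z hza
    obtain ⟨P₂, hP₂⟩ := hsyl v hva
    obtain ⟨h, hh⟩ := MulAction.exists_smul_eq X P₁ P₂
    refine ⟨h, ?_⟩
    rw [← hP₂, ← hh, ← hP₁, Sylow.coe_subgroup_smul]
    rfl
  · obtain ⟨t, ht, hta, htr⟩ : ∃ t : ℕ, t.Prime ∧ t ∣ a ∧ t ≠ r := by
      simpa [and_assoc] using hall
    haveI : Fact t.Prime := ⟨ht⟩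
    obtain ⟨u, hu⟩ := exists_prime_orderOf_dvd_card' (G := centralizer ({z} : Set X)) t
      (by show t ∣ cc z; rw [hza]; exact hta)
    rw [← orderOf_coe] at hu
    have hzu : centralizer ({z} : Set X) = centralizer ({(u : X)} : Set X) :=
      H.cent_eq_of_commute hr ht hra hta hrz (hu ▸ dvd_rfl) (H27.mem_cent_comm.1 u.2)
        (by rw [hu, hj]; exact ((Nat.coprime_primes hr ht).2 htr.symm).pow_left _)
    have huv : Commute (u : X) v := H27.mem_cent_comm.1 (hzu ▸ hv)
    refine ⟨1, ?_⟩
    rw [← hone, hzu]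
    exact H.cent_eq_of_commute hs ht hsa hta (hvo ▸ dvd_rfl) (hu ▸ dvd_rfl) huv.symm
      (by rw [hvo, hu, hsr]; exact (Nat.coprime_primes hr ht).2 htr.symm)

theorem torus {x : X} (hx : x ∈ ofCent X a) :
    (∀ y ∈ centralizer ({x} : Set X), y ≠ 1 → centralizer ({y} : Set X) = centralizer ({x} : Set X)) ∧
    (normalizer (centralizer ({x} : Set X) : Set X)).index * 2 = m := by
  classical
  set T := centralizer ({x} : Set X) with hT
  set N := normalizer (T : Set X) with hN
  have hTa : Nat.card T = a := (mem_ofCent.1 hx).2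
  have hTm : T.index = m := by
    have h := T.card_mul_index
    rw [hTa, H.card] at h
    exact Nat.eq_of_mul_eq_mul_left (by have := H.ha; omega) h
  have hTN : T ≤ N := le_normalizer
  set F := (ofCent X a).filter (fun y => centralizer ({y} : Set X) = T) with hF
  have hsame : ∀ (g : X), T.map (MulAut.conj g).toMonoidHom = T ↔ g ∈ N := fun g => by
    rw [hN, mem_normalizer_iff]
    constructor
    · intro h w
      refine ⟨fun hw => h ▸ Subgroup.mem_map_of_mem _ hw, fun hw => ?_⟩
      rw [← h] at hw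
      obtain ⟨v, hv, hvw⟩ := hw
      obtain rfl : v = w := (MulAut.conj g).injective (by simpa using hvw)
      exact hv
    · intro h
      ext w
      constructor
      · rintro ⟨v, hv, rfl⟩
        exact (h v).1 hv
      · intro hw
        exact ⟨g⁻¹ * w * g, (h _).2 (by simpa [mul_assoc] using hw), by simp [mul_assoc]⟩
  let ψ : (X ⧸ N) × {y : X // y ∈ F} → {y : X // y ∈ ofCent X a} := fun p =>
    ⟨p.1.out * p.2.1 * p.1.out⁻¹, ofCent_conj _ (Finset.mem_filter.1 p.2.2).1⟩
  have hψ : Function.Bijective ψ := by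
    constructor
    · rintro ⟨c₁, y₁⟩ ⟨c₂, y₂⟩ h
      have h' : c₁.out * y₁.1 * c₁.out⁻¹ = c₂.out * y₂.1 * c₂.out⁻¹ := congrArg Subtype.val h
      have h1 := congrArg (fun w => centralizer ({w} : Set X)) h'
      simp only [H27.cent_conj, (Finset.mem_filter.1 y₁.2).2, (Finset.mem_filter.1 y₂.2).2] at h1
      have h2 : c₂.out⁻¹ * c₁.out ∈ N := by
        rw [← hsame]
        have := congrArg (Subgroup.map (MulAut.conj c₂.out⁻¹).toMonoidHom) h1
        rw [map_map, map_map] at this
        convert this using 1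
        · congr 1
          ext; simp [MulAut.conj_apply, mul_assoc]
        · convert (map_id T).symm using 2
          ext; simp [MulAut.conj_apply, mul_assoc]
      have h3 : c₁ = c₂ := by
        rw [← QuotientGroup.out_eq' c₁, ← QuotientGroup.out_eq' c₂, QuotientGroup.eq]
        simpa using N.inv_mem h2
      subst h3
      exact Prod.ext rfl (Subtype.ext (by simpa using h'))
    · rintro ⟨y, hy⟩
      obtain ⟨g, hg⟩ := H.exists_conj_cent hx y hy
      obtain ⟨n, hn⟩ := QuotientGroup.mk_out_eq_mul N g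
      set o := ((g : X ⧸ N)).out
      have ho : centralizer ({y} : Set X) = T.map (MulAut.conj o).toMonoidHom := by
        rw [hg, hn]
        conv_lhs => rw [show centralizer ({x} : Set X) = T from hT.symm, ← (hsame n).2 n.2, map_map]
        congr 1
        ext; simp [MulAut.conj_apply, mul_assoc]
      refine ⟨((g : X ⧸ N), ⟨o⁻¹ * y * o, Finset.mem_filter.2 ⟨?_, ?_⟩⟩), Subtype.ext ?_⟩
      · simpa using ofCent_conj o⁻¹ hy
      · have := H27.cent_conj o⁻¹ y
        rw [inv_inv, ho, map_map] at this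
        rw [this]
        convert map_id T using 2
        ext; simp [MulAut.conj_apply, mul_assoc]
      · show o * (o⁻¹ * y * o) * o⁻¹ = y
        group
  have hcard : N.index * F.card = (ofCent X a).card := by
    have := Nat.card_eq_of_bijective ψ hψ
    rwa [Nat.card_prod, Nat.card_eq_finsetCard, Nat.card_eq_finsetCard] at this
  set h := T.relIndex N
  have hh : h * N.index = m := hTm ▸ relIndex_mul_index hTN
  have h2F : 2 * F.card = (a - 1) * h := by
    refine Nat.eq_of_mul_eq_mul_left (Nat.pos_of_ne_zero (index_ne_zero_of_finite (H := N))) ?_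
    calc N.index * (2 * F.card) = 2 * (N.index * F.card) := by ring
      _ = (a - 1) * m := by rw [hcard, H.count]
      _ = N.index * ((a - 1) * h) := by rw [← hh]; ring
  set T' := Finset.univ.filter (fun y => y ∈ T ∧ y ≠ 1) with hT'
  have hT'card : T'.card + 1 = a := by
    have h1 : insert (1 : X) T' = Finset.univ.filter (fun y => y ∈ T) := by
      ext y
      by_cases hy : y = 1 <;> simp [hT', hy]
    have h2 := Finset.card_insert_of_notMem (s := T') (a := (1 : X)) (by simp [hT'])
    rw [h1, ← Fintype.card_subtype, ← Nat.card_eq_fintype_card, show Nat.card {y // y ∈ T} = a from hTa] at h2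
    omega
  have hFT : F ⊆ T' := fun y hy => by
    obtain ⟨hy', hyT⟩ := Finset.mem_filter.1 hy
    simp only [hT', Finset.mem_filter, Finset.mem_univ, true_and]
    exact ⟨hyT ▸ H27.mem_cent.2 rfl, (mem_ofCent.1 hy').1⟩
  have hle := Finset.card_le_card hFT
  have ha1 := H.ha
  have h12 : h ≤ 2 := by
    by_contra hc
    have : (a - 1) * 3 ≤ (a - 1) * h := Nat.mul_le_mul_left _ (by omega)
    omega
  have hh2 : h = 2 := by
    rcases Nat.lt_or_ge h 2 with h1 | h1
    · exfalso
      have hh0 : h ≠ 0 := index_ne_zero_of_finite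
      have h1' : h = 1 := by omega
      rw [h1', mul_one] at h2F
      set W := T ⊓ centralizer (T : Set X) with hW
      have hWF : Finset.univ.filter (fun y => y ∈ W) = insert 1 F := by
        ext y
        simp only [hW, Finset.mem_filter, Finset.mem_univ, true_and, Finset.mem_insert, hF,
          mem_inf, mem_ofCent]
        constructor
        · rintro ⟨hyT, hyc⟩
          refine or_iff_not_imp_left.2 fun hy1 => ?_
          have hle' : T ≤ centralizer ({y} : Set X) := H27.le_cent_iff.2 hyc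
          have hya : cc y = a := by
            obtain ⟨r, hr, hra⟩ := Nat.exists_prime_and_dvd (n := a) (by omega)
            exact H.cc_eq hy1 hr hra (hra.trans (hTa ▸ card_dvd_of_le hle'))
          refine ⟨⟨hy1, hya⟩, (eq_of_le_of_card_ge hle' ?_).symm⟩
          show cc y ≤ Nat.card T
          rw [hya, hTa]
        · rintro (rfl | ⟨⟨-, -⟩, hyT⟩)
          · exact ⟨one_mem _, one_mem _⟩
          · exact ⟨hyT ▸ H27.mem_cent.2 rfl, H27.le_cent_iff.1 hyT.ge⟩
      have hWc : Nat.card W = F.card + 1 := by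
        rw [← Finset.card_insert_of_notMem (s := F) (a := (1 : X)) (by simp [hF, mem_ofCent]),
          ← hWF, ← Fintype.card_subtype, ← Nat.card_eq_fintype_card]
      obtain ⟨c, hc⟩ : F.card + 1 ∣ a := hTa ▸ hWc ▸ card_dvd_of_le inf_le_left
      obtain ⟨k, hk⟩ := H.odd
      rcases c with _ | _ | c
      · omega
      · omega
      · have : (F.card + 1) * 2 ≤ (F.card + 1) * (c + 1 + 1) := Nat.mul_le_mul_left _ (by omega)
        omega
    · omega
  refine ⟨fun y hy hy1 => ?_, by rw [← hh, hh2, mul_comm]⟩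
  have hFeq : F = T' := Finset.eq_of_subset_of_card_le hFT (by rw [hh2] at h2F; omega)
  have : y ∈ T' := by simp [hT', hy, hy1]
  rw [← hFeq] at this
  exact (Finset.mem_filter.1 this).2

theorem torus_comm {x y w : X} (hx : x ∈ ofCent X a) (hy : y ∈ centralizer ({x} : Set X))
    (hw : w ∈ centralizer ({x} : Set X)) : Commute y w := by
  by_cases hy1 : y = 1
  · rw [hy1]; exact Commute.one_left w
  · exact H27.mem_cent_comm.1 (((H.torus hx).1 y hy hy1).symm ▸ hw)

/-- each torus element is inverted by exactly `a` involutions -/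
theorem card_invs {x : X} (hx : x ∈ ofCent X a) : (invs x).card = a := by
  classical
  set T := centralizer ({x} : Set X) with hT
  set N := normalizer (T : Set X) with hN
  have hTa : Nat.card T = a := (mem_ofCent.1 hx).2
  have hxT : x ∈ T := H27.mem_cent.2 rfl
  have hN2 : 2 ∣ Nat.card N := by
    have h1 := N.card_mul_index
    rw [H.card] at h1
    have h2 : N.index * 2 = m := (H.torus hx).2
    rw [← h2] at h1
    refine ⟨a, Nat.eq_of_mul_eq_mul_right (Nat.pos_of_ne_zero (index_ne_zero_of_finite (H := N))) ?_⟩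
    rw [h1]; ring
  haveI : Fact (Nat.Prime 2) := ⟨Nat.prime_two⟩
  obtain ⟨⟨u, huN⟩, hu⟩ := exists_prime_orderOf_dvd_card' (G := N) 2 hN2
  rw [← orderOf_coe] at hu
  replace hu : orderOf u = 2 := hu
  have huT : u ∉ T := fun h => by
    have h1 : 2 ∣ a := hu ▸ hTa ▸ (orderOf_mk u h ▸ orderOf_dvd_natCard _)
    exact (Nat.not_even_iff_odd.2 H.odd) (even_iff_two_dvd.2 h1)
  have hinv : ∀ y ∈ T, u * y * u⁻¹ = y⁻¹ := by
    intro y hy
    have hy' : u * y * u⁻¹ ∈ T := (mem_normalizer_iff.1 huN y).1 hy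
    refine eq_inv_of_mul_eq_one_left ?_
    by_contra hne
    have hwT : u * y * u⁻¹ * y ∈ T := T.mul_mem hy' hy
    refine huT ?_
    rw [hT, ← (H.torus hx).1 _ hwT hne]
    refine H27.mem_cent.2 ?_
    have hc : Commute y (u * y * u⁻¹) := H.torus_comm hx hy hy'
    calc u * (u * y * u⁻¹ * y) = (u * u) * y * (u⁻¹ * y) := by group
      _ = y * (u⁻¹ * y) := by rw [mul_self_eq_one hu, one_mul]
      _ = y * (u * y * u⁻¹) * u := by rw [inv_eq_self hu, mul_assoc, mul_assoc,
          mul_self_eq_one hu, mul_one]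
      _ = u * y * u⁻¹ * y * u := by rw [hc.eq]
  have hord : ∀ y ∈ T, orderOf (u * y) = 2 := by
    intro y hy
    refine orderOf_eq_prime ?_ (fun h => huT ?_)
    · rw [pow_two]
      calc u * y * (u * y) = (u * y * u⁻¹) * (u * u) * y := by group
        _ = 1 := by rw [hinv y hy, mul_self_eq_one hu, mul_one, inv_mul_cancel]
    · rw [eq_inv_of_mul_eq_one_left h]; exact T.inv_mem hy
  have himg : invs x = (Finset.univ.filter (fun y => y ∈ T)).image (u * ·) := by
    ext s
    simp only [mem_invs, Finset.mem_image, Finset.mem_filter, Finset.mem_univ, true_and]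
    constructor
    · intro hs
      have hs' := conj_eq_inv_of_mem_invs (mem_invs.2 hs)
      refine ⟨u⁻¹ * s, H27.mem_cent.2 ?_, by simp⟩
      have h1 := hinv x hxT
      calc u⁻¹ * s * x = u⁻¹ * (s * x * s⁻¹) * s := by group
        _ = u⁻¹ * (u * x * u⁻¹) * s := by rw [hs', h1]
        _ = x * (u⁻¹ * s) := by group
    · rintro ⟨y, hy, rfl⟩
      exact ⟨hord y hy, by rw [mul_assoc]; exact hord _ (T.mul_mem hy hxT)⟩
  rw [himg, Finset.card_image_of_injective _ (mul_right_injective u), ← Fintype.card_subtype,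
    ← Nat.card_eq_fintype_card]
  exact hTa

end TorusHyp

end H10.ClassSize
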